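import Cfsg.Agent.Lib.Invol.AbelTwo.ReeAbel.Local
import Cfsg.Agent.Lib.Char.Exceptional

/-!
# The character argument

The linear characters of `P` that are trivial on `U` give `q + 1` coherent families; the exceptional characters
have degree at least `q³ - q`, too many for a simple group of order `q³(q³+1)(q-1)`.
-/

set_option autoImplicit false
set_option linter.unusedSectionVars false
set_option linter.style.haveILetI false

namespace Cfsg.Agent.Invol.AbelTwo.ReeAbel

open Subgroup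
open Cfsg
open scoped ComplexConjugate
open scoped _root_.Classical

universe u

namespace TIData

variable {G : Type u} [Group G] [Fintype G] (D : TIData G)

/-- The linear characters of `P`. -/
abbrev Lin := ↥D.P →* ℂˣ

/-- Their functions. -/
def fn (φ : D.Lin) : ↥D.P → ℂ := fun x => (φ x : ℂ)

theorem fn_inj : Function.Injective D.fn := fun _ _ h =>
  MonoidHom.ext fun x => Units.ext (congrFun h x)

theorem fn_irr (φ : D.Lin) : IsIrrCharacter ↥D.P (D.fn φ) := Char.isIrr_linear φ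

theorem inner_fn [Fintype ↥D.P] (φ ψ : D.Lin) :
    classInner (D.fn φ) (D.fn ψ) = if φ = ψ then 1 else 0 := by
  rw [Char.classInner_irr_eq_ite (D.fn_irr φ) (D.fn_irr ψ)]
  exact if_congr D.fn_inj.eq_iff rfl rfl

/-- Conjugation by an element of the normaliser. -/
def cj (n : ↥(normalizer (D.P : Set G))) : ↥D.P →* ↥D.P :=
  ((MulAut.conj (n : G)⁻¹).toMonoidHom.comp D.P.subtype).codRestrict D.P fun x => by
    have h := (mem_normalizer_iff.1 (inv_mem n.2) (x : G)).1 x.2
    exact h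

theorem cj_coe (n : ↥(normalizer (D.P : Set G))) (x : ↥D.P) : (D.cj n x : G) = (n : G)⁻¹ * x * n := by
  show (n : G)⁻¹ * (x : G) * ((n : G)⁻¹)⁻¹ = _
  rw [inv_inv]

/-- The action of the normaliser on linear characters. -/
abbrev act : MulAction ↥(normalizer (D.P : Set G)) D.Lin where
  smul n φ := φ.comp (D.cj n)
  one_smul φ := MonoidHom.ext fun x => congrArg φ (Subtype.ext (by rw [D.cj_coe]; simp))
  mul_smul m n φ := MonoidHom.ext fun x => congrArg φ (Subtype.ext (by
    rw [D.cj_coe, D.cj_coe, D.cj_coe, Subgroup.coe_mul]; group))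

/-- The number of elements of the normaliser taking `ψ` to `φ`. -/
noncomputable def cnt (φ ψ : D.Lin) : ℕ :=
  letI := D.act
  Nat.card {n : ↥(normalizer (D.P : Set G)) // n • ψ = φ}

theorem card_N_pos : 0 < Nat.card ↥D.P := Nat.card_pos

theorem ind_apply [Fintype ↥D.P] {h : ↥D.P → ℂ} (h1 : h 1 = 0) (x : ↥D.P) :
    indFun D.P h (x : G) = (Nat.card ↥D.P : ℂ)⁻¹ * ∑ n : ↥(normalizer (D.P : Set G)), h (D.cj n x) := by
  unfold indFun
  congr 1
  have hout : ∀ g : G, g ∉ normalizer (D.P : Set G) → extendByZero D.P h (g⁻¹ * x * g) = 0 := by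
    intro g hg
    by_cases hmem : g⁻¹ * (x : G) * g ∈ D.P
    · have hx : (x : G) = 1 := D.ti g⁻¹ (fun h' => hg (by simpa using inv_mem h')) x x.2 (by rwa [inv_inv])
      rw [show g⁻¹ * (x : G) * g = ((1 : ↥D.P) : G) by rw [hx]; simp, Char.extendByZero_apply, h1]
    · exact Char.extendByZero_not_mem _ hmem
  rw [← Finset.sum_subset (Finset.subset_univ (Finset.univ.map (Function.Embedding.subtype
    fun g => g ∈ normalizer (D.P : Set G)))) (fun g _ hg => hout g (fun hh => hg (by simp [hh]))),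
    Finset.sum_map]
  refine Finset.sum_congr rfl fun n _ => ?_
  rw [show (Function.Embedding.subtype _) n = (n : G) from rfl, ← D.cj_coe, Char.extendByZero_apply]

theorem ind_inner [Fintype ↥D.P] (φ φ' ψ ψ' : D.Lin) :
    classInner (indFun D.P (D.fn φ) - indFun D.P (D.fn φ')) (indFun D.P (D.fn ψ) - indFun D.P (D.fn ψ')) =
      (Nat.card ↥D.P : ℂ)⁻¹ * ((D.cnt φ ψ : ℂ) - D.cnt φ ψ' - D.cnt φ' ψ + D.cnt φ' ψ') := by
  letI := D.act
  rw [← Char.indFun_sub, ← Char.indFun_sub, Char.classInner_indFun _ _ (Char.indFun_classFun _ _)]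
  have h1 : (D.fn ψ - D.fn ψ') 1 = 0 := by simp [fn]
  have hres : (fun x : ↥D.P => indFun D.P (D.fn ψ - D.fn ψ') (x : G)) =
      (Nat.card ↥D.P : ℂ)⁻¹ • ∑ n : ↥(normalizer (D.P : Set G)), (D.fn (n • ψ) - D.fn (n • ψ')) := by
    funext x
    rw [D.ind_apply h1 x, Pi.smul_apply, Finset.sum_apply, smul_eq_mul]
    rfl
  rw [hres, Char.classInner_smul_right, map_inv₀, Complex.conj_natCast, Char.classInner_sum_right]
  congr 1
  have hc : ∀ α β : D.Lin, (D.cnt α β : ℂ) = ∑ n : ↥(normalizer (D.P : Set G)),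
      (if α = n • β then (1 : ℂ) else 0) := fun α β => by
    rw [← Finset.sum_filter, Finset.sum_const, nsmul_eq_mul, mul_one, cnt, Nat.card_eq_fintype_card,
      Fintype.card_subtype]
    exact congrArg (fun s : Finset _ => ((Finset.card s : ℕ) : ℂ)) (Finset.filter_congr fun n _ => eq_comm)
  rw [hc, hc, hc, hc, ← Finset.sum_sub_distrib, ← Finset.sum_sub_distrib, ← Finset.sum_add_distrib]
  refine Finset.sum_congr rfl fun n _ => ?_
  rw [Char.Exceptional.classInner_sub_sub, D.inner_fn, D.inner_fn, D.inner_fn, D.inner_fn]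

theorem cnt_zero {φ ψ : D.Lin}
    (h : ∀ n : ↥(normalizer (D.P : Set G)), (letI := D.act; n • ψ) ≠ φ) : D.cnt φ ψ = 0 := by
  letI := D.act
  exact Nat.card_eq_zero.2 (Or.inl ⟨fun n => h n.1 n.2⟩)

/-- An element of the normaliser fixing a non-trivial character lies in `P ∪ P t`; in `P` if the character is
trivial on `U`. -/
theorem fixer {φ : D.Lin} (hφ : φ ≠ 1) {n : ↥(normalizer (D.P : Set G))}
    (hn : (letI := D.act; n • φ) = φ) :
    (n : G) ∈ D.P ∨ ((∃ p ∈ D.P, (n : G) = p * D.t) ∧ ∃ u : ↥D.P, (u : G) ∈ D.U ∧ φ u ≠ 1) := by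
  letI := D.act
  rcases D.stab n n.2 with h | ⟨p, hp, hpn⟩ | h
  · exact Or.inl h
  · refine Or.inr ⟨⟨p, hp, hpn⟩, ?_⟩
    by_contra hno
    push Not at hno
    refine hφ (MonoidHom.ext fun x => ?_)
    have hx := DFunLike.congr_fun hn x
    change φ (D.cj n x) = φ x at hx
    set y := x * D.cj n x with hy
    have hyU : (y : G) ∈ D.U := by
      have hc : ∀ z : ↥D.P, (D.cj n z : G) = D.t * z * D.t⁻¹ := fun z => by
        rw [D.cj_coe, hpn, show (p * D.t)⁻¹ * (z : G) * (p * D.t) = D.t⁻¹ * (p⁻¹ * ((z : G) * p)) * D.t by group,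
          D.P_comm _ z.2 p hp, inv_mul_cancel_left, inv_eq_of_mul_eq_one_right D.t2]
      refine D.fix_t _ y.2 ?_
      rw [hy, Subgroup.coe_mul, hc,
        show D.t * ((x : G) * (D.t * x * D.t⁻¹)) * D.t⁻¹ = (D.t * x * D.t⁻¹) * (D.t * D.t * x * (D.t * D.t)⁻¹) by
          group, D.t2, inv_one, mul_one, one_mul]
      exact D.P_comm _ (hc x ▸ (D.cj n x).2) _ x.2
    have h2 : φ x * φ x = 1 := by
      have h := hno y hyU
      rwa [hy, map_mul, hx] at h
    have hodd : Odd (Nat.card ↥D.P) := D.card_P ▸ D.q_odd.pow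
    obtain ⟨d, hd⟩ := hodd
    have h3 : φ x ^ Nat.card ↥D.P = 1 := by rw [← map_pow, pow_card_eq_one', map_one]
    rwa [hd, pow_succ, pow_mul, pow_two, h2, one_pow, one_mul] at h3
  · exfalso
    have hn2 : (n * n) • φ = φ := by rw [mul_smul, hn, hn]
    let δ : ↥D.P → ↥D.P := fun x => x⁻¹ * D.cj (n * n) x
    have hδ : Function.Injective δ := by
      intro a b hab
      have e : D.cj (n * n) (a * b⁻¹) = a * b⁻¹ := by
        have hab' : (D.cj (n * n) a) = a * (b⁻¹ * D.cj (n * n) b) := by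
          rw [← show δ a = b⁻¹ * D.cj (n * n) b from hab]; simp [δ]
        rw [map_mul, map_inv, hab']; group
      have h' := h (a * b⁻¹ : ↥D.P) (a * b⁻¹ : ↥D.P).2 (by
        have e' : ((D.cj (n * n) (a * b⁻¹) : ↥D.P) : G) = ((a * b⁻¹ : ↥D.P) : G) := congrArg Subtype.val e
        rw [D.cj_coe] at e'
        conv_lhs => rw [← e']
        rw [Subgroup.coe_mul]; group)
      exact mul_inv_eq_one.1 (Subtype.ext h')
    refine hφ (MonoidHom.ext fun y => ?_)
    obtain ⟨x, rfl⟩ := (Finite.injective_iff_surjective.1 hδ) y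
    have hx := DFunLike.congr_fun hn2 x
    change φ (D.cj (n * n) x) = φ x at hx
    rw [MonoidHom.one_apply]
    show φ (x⁻¹ * D.cj (n * n) x) = 1
    rw [map_mul, map_inv, hx, inv_mul_cancel]

theorem cnt_self_ge (φ : D.Lin) : Nat.card ↥D.P ≤ D.cnt φ φ := by
  letI := D.act
  refine Nat.card_le_card_of_injective (fun x : ↥D.P =>
    (⟨⟨x, le_normalizer x.2⟩, MonoidHom.ext fun z => congrArg φ (Subtype.ext ?_)⟩ :
      {n : ↥(normalizer (D.P : Set G)) // n • φ = φ})) fun x y h => ?_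
  · rw [D.cj_coe]
    show (x : G)⁻¹ * z * x = z
    rw [mul_assoc, D.P_comm _ z.2 _ x.2, inv_mul_cancel_left]
  · exact Subtype.ext (congrArg (fun m : {n : ↥(normalizer (D.P : Set G)) // n • φ = φ} => ((m.1 : _) : G)) h)

theorem cnt_self_le {φ : D.Lin} (hφ : φ ≠ 1) : D.cnt φ φ ≤ 2 * Nat.card ↥D.P := by
  letI := D.act
  refine (Nat.card_le_card_of_injective (α := {n : ↥(normalizer (D.P : Set G)) // n • φ = φ})
    (β := ↥D.P ⊕ ↥D.P)
    (fun n => if h : ((n.1 : _) : G) ∈ D.P then Sum.inl ⟨_, h⟩ else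
      Sum.inr ⟨((D.fixer hφ n.2).resolve_left h).1.choose, ((D.fixer hφ n.2).resolve_left h).1.choose_spec.1⟩)
    fun m n h => ?_).trans (le_of_eq (by rw [Nat.card_sum, two_mul]))
  refine Subtype.ext (Subtype.ext ?_)
  dsimp only at h
  split_ifs at h with h1 h2 h2
  · have h' := Sum.inl_injective h
    exact congrArg (fun z : ↥D.P => (z : G)) h'
  · rw [((D.fixer hφ m.2).resolve_left h1).1.choose_spec.2, ((D.fixer hφ n.2).resolve_left h2).1.choose_spec.2]
    exact congrArg (fun z : ↥D.P => (z : G) * D.t) (Sum.inr_injective h)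

theorem cnt_self_eq {φ : D.Lin} (hφ : φ ≠ 1) (hU : ∀ u : ↥D.P, (u : G) ∈ D.U → φ u = 1) :
    D.cnt φ φ = Nat.card ↥D.P := by
  letI := D.act
  refine le_antisymm (Nat.card_le_card_of_injective (α := {n : ↥(normalizer (D.P : Set G)) // n • φ = φ})
    (fun n => (⟨((n.1 : _) : G), (D.fixer hφ n.2).resolve_right fun h => ?_⟩ : ↥D.P))
    fun m n h => Subtype.ext (Subtype.ext (congrArg (fun z : ↥D.P => (z : G)) h))) (D.cnt_self_ge φ)
  obtain ⟨-, u, hu, hu1⟩ := h
  exact hu1 (hU u hu)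

/-- The representatives. -/
theorem exists_reps :
    ∃ φ : Fin (D.q + 1) → D.Lin, (∀ i, φ i ≠ 1 ∧ ∀ u : ↥D.P, (u : G) ∈ D.U → φ i u = 1) ∧
      ∀ i j, (∃ n : ↥(normalizer (D.P : Set G)), (letI := D.act; n • φ j) = φ i) → i = j := by
  letI := D.act
  letI : CommGroup ↥D.P :=
    { (inferInstance : Group ↥D.P) with mul_comm := fun a b => Subtype.ext (D.P_comm _ a.2 _ b.2) }
  set V : Subgroup ↥D.P := D.U.subgroupOf D.P
  set Z := {φ : D.Lin // φ ≠ 1 ∧ ∀ u : ↥D.P, (u : G) ∈ D.U → φ u = 1}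
  haveI : Finite D.Lin := Finite.of_injective
    (fun φ : D.Lin => (⟨D.fn φ, D.fn_irr φ⟩ : IrrCharacter ↥D.P)) fun a b h => D.fn_inj (congrArg Subtype.val h)
  have hq0 : 0 < D.q := lt_of_lt_of_le (by norm_num) D.q_ge
  have hV : Nat.card (↥D.P ⧸ V) = D.q ^ 2 := by
    have h := V.card_eq_card_quotient_mul_card_subgroup
    rw [D.card_P, Nat.card_congr (Subgroup.subgroupOfEquivOfLe D.UP).toEquiv, D.card_U, pow_succ] at h
    exact (Nat.eq_of_mul_eq_mul_right hq0 h).symm
  have hZ : D.q ^ 2 - 1 ≤ Nat.card Z := by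
    have hcard : Nat.card ((↥D.P ⧸ V) →* ℂˣ) = D.q ^ 2 := by
      rw [CommGroup.card_monoidHom_of_hasEnoughRootsOfUnity, hV]
    haveI : Finite ((↥D.P ⧸ V) →* ℂˣ) := Nat.finite_of_card_ne_zero (by rw [hcard]; positivity)
    haveI : Fintype ((↥D.P ⧸ V) →* ℂˣ) := Fintype.ofFinite _
    have h := Nat.card_le_card_of_injective (α := {χ : (↥D.P ⧸ V) →* ℂˣ // χ ≠ 1}) (β := Z)
      (fun χ => ⟨χ.1.comp (QuotientGroup.mk' V), fun e => χ.2 (MonoidHom.ext fun x => by
        obtain ⟨z, rfl⟩ := QuotientGroup.mk'_surjective V x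
        exact DFunLike.congr_fun e z), fun u hu => by
        show χ.1 (u : ↥D.P ⧸ V) = 1
        rw [(QuotientGroup.eq_one_iff u).2 (mem_subgroupOf.2 hu), map_one]⟩)
      fun χ χ' e => Subtype.ext (MonoidHom.ext fun x => by
        obtain ⟨z, rfl⟩ := QuotientGroup.mk'_surjective V x
        exact DFunLike.congr_fun (congrArg Subtype.val e) z)
    rwa [Nat.card_eq_fintype_card, Fintype.card_subtype_compl, Fintype.card_subtype_eq,
      ← Nat.card_eq_fintype_card, hcard] at h
  let f : Z → Quotient (MulAction.orbitRel ↥(normalizer (D.P : Set G)) D.Lin) := fun z => ⟦z.1⟧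
  set R := Set.range f
  haveI : Finite R := (Set.finite_range f).to_subtype
  haveI : Fintype R := Fintype.ofFinite _
  have hfib : ∀ r : R, Nat.card {z : Z // Set.rangeFactorization f z = r} ≤ D.q - 1 := by
    rintro ⟨r, z0, rfl⟩
    let inc : {z : Z // Set.rangeFactorization f z = ⟨f z0, z0, rfl⟩} →
        MulAction.orbit ↥(normalizer (D.P : Set G)) z0.1 := fun z =>
      ⟨z.1.1, MulAction.orbitRel_apply.1 (Quotient.exact (congrArg Subtype.val z.2))⟩
    have hinc : Function.Injective inc := fun a b e =>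
      Subtype.ext (Subtype.ext (show ((inc a : MulAction.orbit ↥(normalizer (D.P : Set G)) z0.1) : D.Lin) = inc b by rw [e]))
    refine (Nat.card_le_card_of_injective inc hinc).trans (le_of_eq ?_)
    have h := Nat.card_congr (MulAction.orbitProdStabilizerEquivGroup ↥(normalizer (D.P : Set G)) z0.1)
    rw [Nat.card_prod, D.card_N, show Nat.card (MulAction.stabilizer ↥(normalizer (D.P : Set G)) z0.1) = D.q ^ 3 from
      (D.cnt_self_eq z0.2.1 z0.2.2).trans D.card_P, mul_comm _ (D.q ^ 3)] at h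
    exact Nat.eq_of_mul_eq_mul_left (pow_pos hq0 3) h
  have hR : D.q + 1 ≤ Nat.card R := by
    have h1 : Nat.card Z ≤ Nat.card R * (D.q - 1) := by
      haveI : Finite Z := Subtype.finite
      rw [Nat.card_congr (Equiv.sigmaFiberEquiv (Set.rangeFactorization f)).symm, Nat.card_sigma]
      refine (Finset.sum_le_sum fun r _ => hfib r).trans (le_of_eq ?_)
      rw [Finset.sum_const, Finset.card_univ, smul_eq_mul, Nat.card_eq_fintype_card]
    have h2 := hZ.trans h1
    rw [show D.q ^ 2 - 1 = (D.q + 1) * (D.q - 1) by simpa using Nat.sq_sub_sq D.q 1] at h2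
    exact Nat.le_of_mul_le_mul_right h2 (by have := D.q_ge; omega)
  haveI : Fintype (Fin (D.q + 1)) := inferInstance
  obtain ⟨g⟩ : Nonempty (Fin (D.q + 1) ↪ R) := Function.Embedding.nonempty_of_card_le (by
    rw [← Nat.card_eq_fintype_card, ← Nat.card_eq_fintype_card, Nat.card_fin]; exact hR)
  choose z hz using fun r : R => r.2
  refine ⟨fun i => (z (g i)).1, fun i => (z (g i)).2, fun i j h => g.injective (Subtype.ext ?_)⟩
  rw [← hz (g i), ← hz (g j)]
  exact Quotient.sound (MulAction.orbitRel_apply.2 h)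

end TIData

end Cfsg.Agent.Invol.AbelTwo.ReeAbel
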