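import Cfsg.Agent.Lib.Invol.AbelTwo.ReeAbel.Chars

/-!
# No simple group with this TI data

The representatives give `q + 1` coherent irreducible characters; all but one of them contain every non-trivial
linear character outside their own orbit equally often.
-/

set_option autoImplicit false
set_option linter.unusedSectionVars false
set_option linter.style.haveILetI false

namespace Cfsg.Agent.Invol.AbelTwo.ReeAbel

open Subgroup
open Cfsg
open scoped ComplexConjugate
open scoped _root_.Classical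

universe u

namespace TIData

variable {G : Type u} [Group G] [Fintype G] (D : TIData G)

/-- The restriction of a character in the basis of linear characters. -/
theorem exists_mult [Fintype ↥D.P] [Fintype D.Lin] {θ : G → ℂ} (hθ : IsIrrCharacter G θ) :
    ∃ m : D.Lin → ℕ, (fun x : ↥D.P => θ x) = ∑ φ, (m φ : ℂ) • D.fn φ ∧
      ∀ φ, classInner (D.fn φ) (fun x : ↥D.P => θ x) = m φ := by
  have hbij : Function.Bijective (fun φ : D.Lin => (⟨D.fn φ, D.fn_irr φ⟩ : IrrCharacter ↥D.P)) := by
    refine ⟨fun a b h => D.fn_inj (congrArg Subtype.val h), fun χ => ?_⟩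
    obtain ⟨l, hl⟩ := Char.linearHom_of_isCharacter (Char.IsIrr.isCharacter χ.2)
      (Char.IsIrr.one_of_comm (fun a b => Subtype.ext (D.P_comm _ a.2 _ b.2)) χ.2)
    exact ⟨l, Subtype.ext hl.symm⟩
  let e := Equiv.ofBijective _ hbij
  obtain ⟨a, ha⟩ := Char.IsChar.exists_decomp (Char.IsChar.res (Char.IsIrr.isCharacter hθ) D.P)
  have hsum : (fun x : ↥D.P => θ x) = ∑ φ, (a (e φ) : ℂ) • D.fn φ := by
    rw [ha, ← Equiv.sum_comp e]
    rfl
  refine ⟨fun φ => a (e φ), hsum, fun φ => ?_⟩
  rw [hsum, Char.classInner_sum_right, Finset.sum_eq_single φ (fun ψ _ hne => by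
    rw [Char.classInner_smul_right, D.inner_fn, if_neg hne.symm, mul_zero]) (by simp),
    Char.classInner_smul_right, D.inner_fn, if_pos rfl, mul_one, Complex.conj_natCast]

/-- The TI data do not occur in a simple group. -/
theorem impossible (D : TIData G) [IsSimpleGroup G] : False := by
  haveI : Fintype ↥D.P := Fintype.ofFinite _
  letI := D.act
  obtain ⟨φ, hφ, horb⟩ := D.exists_reps
  have hPpos : (Nat.card ↥D.P : ℂ) ≠ 0 := Nat.cast_ne_zero.2 Nat.card_pos.ne'
  have hq := D.q_ge
  -- counts between representatives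
  have hcnt : ∀ i j, D.cnt (φ i) (φ j) = if i = j then Nat.card ↥D.P else 0 := by
    intro i j
    split_ifs with h
    · subst h; exact D.cnt_self_eq (hφ i).1 (hφ i).2
    · exact D.cnt_zero fun n hn => h (horb i j ⟨n, hn⟩)
  set a : Fin (D.q + 1) → G → ℂ := fun i => indFun D.P (D.fn (φ i)) with ha
  have hgen : ∀ α β : D.Lin, IsGeneralizedCharacter G (indFun D.P (D.fn α) - indFun D.P (D.fn β)) := by
    intro α β
    rw [← Char.indFun_sub]
    exact Char.IsGenChar.ind _ ⟨_, _, Char.IsIrr.isCharacter (D.fn_irr α), Char.IsIrr.isCharacter (D.fn_irr β), rfl⟩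
  obtain ⟨ε, hε, θ, hθ, hθinj, hdiff⟩ := Char.Exceptional.exists_family (n := D.q + 1) (by omega) a
    (fun i j => hgen _ _) (fun i j => by simp only [ha, Char.indFun_one_eq]; simp [fn]) (fun i j k l => by
      rw [ha, D.ind_inner, hcnt, hcnt, hcnt, hcnt]
      push_cast
      rw [mul_add, mul_sub, mul_sub]
      simp only [mul_ite, mul_zero, inv_mul_cancel₀ hPpos])
  have hε0 : ε ≠ 0 := by rcases hε with h | h <;> rw [h] <;> norm_num
  haveI : Finite D.Lin := Finite.of_injective
    (fun φ : D.Lin => (⟨D.fn φ, D.fn_irr φ⟩ : IrrCharacter ↥D.P)) fun a b h => D.fn_inj (congrArg Subtype.val h)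
  letI : Fintype D.Lin := Fintype.ofFinite _
  choose m hres hm using fun k => D.exists_mult (hθ k)
  have hclass : ∀ k, IsClassFunction G (θ k) := fun k => Char.IsIrr.classFun (hθ k)
  have hpair : ∀ (α : D.Lin) k, classInner (indFun D.P (D.fn α)) (θ k) = (m k α : ℂ) := fun α k => by
    rw [Char.classInner_indFun _ _ (hclass k), hm]
  have hθθ : ∀ i j, classInner (θ i) (θ j) = if i = j then 1 else 0 := fun i j => by
    rw [Char.classInner_irr_eq_ite (hθ i) (hθ j)]
    exact if_congr hθinj.eq_iff rfl rfl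
  have hεm : ∀ i j k, ((m k (φ i) : ℂ) - m k (φ j)) = ε * ((if i = k then 1 else 0) - if j = k then 1 else 0) := by
    intro i j k
    rw [← hpair, ← hpair, ← Char.classInner_sub_left, show indFun D.P (D.fn (φ i)) - indFun D.P (D.fn (φ j)) = ε • (θ i - θ j) from hdiff i j,
      Char.classInner_smul_left, Char.classInner_sub_left, hθθ, hθθ]
  -- every other non-trivial linear character occurs like the first representative
  have hkey : ∀ k, k ≠ 0 → ∀ ψ : D.Lin, ψ ≠ 1 → (∀ n : ↥(normalizer (D.P : Set G)), n • φ k ≠ ψ) → m k ψ = m k (φ 0) := by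
    intro k hk ψ hψ hψk
    set E := indFun D.P (D.fn ψ) - indFun D.P (D.fn (φ 0)) with hE
    have hEk : ∀ i, classInner E (θ i) = ((m i ψ : ℤ) - m i (φ 0) : ℤ) := fun i => by
      rw [hE, Char.classInner_sub_left, hpair, hpair]; push_cast; rfl
    set I := Finset.univ.filter fun i : Fin (D.q + 1) => i ≠ 0 ∧ ∀ n : ↥(normalizer (D.P : Set G)), n • φ i ≠ ψ with hI
    have hkI : k ∈ I := Finset.mem_filter.2 ⟨Finset.mem_univ _, hk, hψk⟩
    have hIcard : D.q - 1 ≤ I.card := by
      have hsmall : (Finset.univ.filter fun i : Fin (D.q + 1) => ∃ n : ↥(normalizer (D.P : Set G)), n • φ i = ψ).card ≤ 1 := by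
        refine Finset.card_le_one.2 fun i hi j hj => ?_
        obtain ⟨n, hn⟩ := (Finset.mem_filter.1 hi).2
        obtain ⟨n', hn'⟩ := (Finset.mem_filter.1 hj).2
        exact horb i j ⟨n⁻¹ * n', by rw [mul_smul, hn', ← hn, inv_smul_smul]⟩
      have hsub : (Finset.univ : Finset (Fin (D.q + 1))) ⊆
          insert 0 (I ∪ Finset.univ.filter fun i : Fin (D.q + 1) => ∃ n : ↥(normalizer (D.P : Set G)), n • φ i = ψ) := by
        intro i _
        simp only [Finset.mem_insert, Finset.mem_union, hI, Finset.mem_filter, Finset.mem_univ, true_and]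
        by_cases h0 : i = 0
        · exact Or.inl h0
        by_cases hh : ∃ n : ↥(normalizer (D.P : Set G)), n • φ i = ψ
        · exact Or.inr (Or.inr hh)
        · exact Or.inr (Or.inl ⟨h0, fun n hn => hh ⟨n, hn⟩⟩)
      have h := (Finset.card_le_card hsub).trans ((Finset.card_insert_le _ _).trans
        (Nat.add_le_add_right (Finset.card_union_le _ _) 1))
      rw [Finset.card_univ, Fintype.card_fin] at h
      omega
    have hconst : ∀ i ∈ I, classInner E (θ i) = classInner E (θ k) := by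
      intro i hi
      obtain ⟨-, hi0, hiψ⟩ := Finset.mem_filter.1 hi
      have h := D.ind_inner ψ (φ 0) (φ i) (φ k)
      rw [D.cnt_zero hiψ, D.cnt_zero hψk, hcnt, hcnt, if_neg (Ne.symm hi0), if_neg (Ne.symm hk)] at h
      simp only [Nat.cast_zero, sub_zero, add_zero, mul_zero] at h
      rw [show indFun D.P (D.fn (φ i)) - indFun D.P (D.fn (φ k)) = ε • (θ i - θ k) from hdiff i k, ← hE,
        Char.classInner_smul_right, mul_eq_zero, Char.classInner_sub_right, sub_eq_zero] at h
      exact h.resolve_left (by simpa using hε0)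
    set c : ℤ := (m k ψ : ℤ) - m k (φ 0) with hc
    by_contra hne
    have hc0 : c ≠ 0 := by rw [hc]; omega
    have hcI : ∀ i ∈ I, classInner E (θ i) = (c : ℂ) := fun i hi => (hconst i hi).trans (hEk k)
    -- Bessel
    set E' := E - ∑ i ∈ I, (c : ℂ) • θ i with hE'
    have hEE : classInner E E = ((D.cnt ψ ψ : ℂ) / Nat.card ↥D.P - (D.cnt ψ (φ 0) : ℂ) / Nat.card ↥D.P -
        (D.cnt (φ 0) ψ : ℂ) / Nat.card ↥D.P + 1) := by
      rw [hE, D.ind_inner, hcnt, if_pos rfl]
      field_simp
    have hsumθ : ∀ j ∈ I, classInner (∑ i ∈ I, (c : ℂ) • θ i) (θ j) = c := by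
      intro j hj
      rw [Char.classInner_sum_left, Finset.sum_eq_single j (fun i _ hij => by
        rw [Char.classInner_smul_left, hθθ, if_neg hij, mul_zero]) (fun h => absurd hj h),
        Char.classInner_smul_left, hθθ, if_pos rfl, mul_one]
    have hE'E' : classInner E' E' = classInner E E - (I.card : ℂ) * c * c := by
      have h1 : ∀ j ∈ I, classInner E' (θ j) = 0 := fun j hj => by
        rw [hE', Char.classInner_sub_left, hcI j hj, hsumθ j hj, sub_self]
      have h2 : classInner E' (∑ i ∈ I, (c : ℂ) • θ i) = 0 := by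
        rw [Char.classInner_sum_right]
        exact Finset.sum_eq_zero fun j hj => by rw [Char.classInner_smul_right, h1 j hj, mul_zero]
      have h3 : classInner (∑ i ∈ I, (c : ℂ) • θ i) E = (I.card : ℂ) * c * c := by
        rw [Char.classInner_sum_left, Finset.sum_congr rfl (fun j hj => by
          rw [Char.classInner_smul_left, ← Char.classInner_conj_symm, hcI j hj, map_intCast]), Finset.sum_const,
          nsmul_eq_mul, mul_assoc]
      calc classInner E' E' = classInner E' E := by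
            conv_lhs => arg 2; rw [hE']
            rw [Char.classInner_sub_right, h2, sub_zero]
        _ = _ := by rw [hE', Char.classInner_sub_left, h3]
    have hnn := Char.classInner_self_re_nonneg E'
    rw [hE'E', hEE] at hnn
    set P' : ℝ := (Nat.card ↥D.P : ℝ) with hP'
    have hP'pos : 0 < P' := by rw [hP']; exact_mod_cast Nat.card_pos
    have hre : (((D.cnt ψ ψ : ℂ) / Nat.card ↥D.P - (D.cnt ψ (φ 0) : ℂ) / Nat.card ↥D.P -
        (D.cnt (φ 0) ψ : ℂ) / Nat.card ↥D.P + 1) - (I.card : ℂ) * c * c).re =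
        (D.cnt ψ ψ : ℝ) / P' - (D.cnt ψ (φ 0) : ℝ) / P' - (D.cnt (φ 0) ψ : ℝ) / P' + 1 - (I.card : ℝ) * c * c := by
      rw [show (((D.cnt ψ ψ : ℂ) / Nat.card ↥D.P - (D.cnt ψ (φ 0) : ℂ) / Nat.card ↥D.P -
        (D.cnt (φ 0) ψ : ℂ) / Nat.card ↥D.P + 1) - (I.card : ℂ) * c * c) =
        (((D.cnt ψ ψ : ℝ) / P' - (D.cnt ψ (φ 0) : ℝ) / P' - (D.cnt (φ 0) ψ : ℝ) / P' + 1 -
          (I.card : ℝ) * c * c : ℝ) : ℂ) by rw [hP']; push_cast; rfl, Complex.ofReal_re]
    rw [hre] at hnn
    have h1 : (D.cnt ψ ψ : ℝ) / P' ≤ 2 := by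
      rw [div_le_iff₀ hP'pos, hP']
      exact_mod_cast D.cnt_self_le hψ
    have h2 : 0 ≤ (D.cnt ψ (φ 0) : ℝ) / P' := by positivity
    have h2' : 0 ≤ (D.cnt (φ 0) ψ : ℝ) / P' := by positivity
    have h3 : (26 : ℝ) ≤ I.card := by exact_mod_cast (show 26 ≤ I.card by omega)
    have h4 : (1 : ℝ) ≤ (c : ℝ) * c := by
      have : (1 : ℤ) ≤ c * c := mul_self_pos.2 hc0
      exact_mod_cast this
    nlinarith
  -- the exceptional characters are large
  have hbig : ∀ k, k ≠ 0 → D.q ^ 3 - D.q ≤ ∑ ψ, m k ψ := by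
    intro k hk
    by_cases h0 : m k (φ 0) = 0
    · exfalso
      have hsupp : ∀ ψ : D.Lin, m k ψ ≠ 0 → ∀ u : ↥D.P, (u : G) ∈ D.U → ψ u = 1 := by
        intro ψ hψ u hu
        by_cases h1 : ψ = 1
        · rw [h1]; rfl
        by_cases h2 : ∃ n : ↥(normalizer (D.P : Set G)), n • φ k = ψ
        · obtain ⟨n, rfl⟩ := h2
          exact (hφ k).2 _ (D.cj_coe n u ▸ D.U_norm n n.2 u hu)
        · exact absurd ((hkey k hk ψ h1 fun n hn => h2 ⟨n, hn⟩).trans h0) hψ
      have hker : ∀ u : ↥D.P, (u : G) ∈ D.U → θ k u = θ k 1 := by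
        intro u hu
        have e1 := congrFun (hres k) u
        have e2 := congrFun (hres k) 1
        simp only [OneMemClass.coe_one, Finset.sum_apply, Pi.smul_apply, smul_eq_mul] at e1 e2
        rw [e1, e2]
        refine Finset.sum_congr rfl fun ψ _ => ?_
        by_cases hψ : m k ψ = 0
        · simp [hψ]
        · simp [fn, hsupp ψ hψ u hu]
      obtain ⟨u, hu, hu1⟩ : ∃ u ∈ D.U, u ≠ 1 := by
        by_contra hh
        push Not at hh
        have h := D.card_U
        rw [(eq_bot_iff_forall _).2 hh, card_bot] at h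
        omega
      have hK : Char.charKer (Char.IsIrr.isCharacter (hθ k)) = ⊤ :=
        ((Char.charKer_normal _).eq_bot_or_eq_top).resolve_left fun h => hu1 (by
          rw [← mem_bot (G := G), ← h, Char.mem_charKer]
          exact hker ⟨u, D.UP hu⟩ hu)
      have hall : ∀ g : G, θ k g = θ k 1 := fun g => (Char.mem_charKer _).1 (hK ▸ mem_top g)
      have hmk : (m k (φ k) : ℂ) = 0 := by
        rw [← hm k (φ k), show (fun x : ↥D.P => θ k x) = θ k 1 • D.fn 1 from funext fun x => by
          rw [Pi.smul_apply, hall x, smul_eq_mul]; simp [fn], Char.classInner_smul_right, D.inner_fn,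
          if_neg (hφ k).1, mul_zero]
      have h := hεm k 0 k
      rw [if_pos rfl, if_neg (Ne.symm hk), hmk, h0, Nat.cast_zero, sub_zero, sub_zero, mul_one] at h
      exact hε0 h.symm
    set S := (Finset.univ : Finset D.Lin).filter fun ψ => ψ ≠ 1 ∧ ∀ n : ↥(normalizer (D.P : Set G)), n • φ k ≠ ψ with hS
    have hS1 : D.q ^ 3 - D.q ≤ S.card := by
      set O := (Finset.univ : Finset D.Lin).filter fun ψ => ∃ n : ↥(normalizer (D.P : Set G)), n • φ k = ψ with hO
      have hOcard : O.card ≤ D.q - 1 := by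
        have h := Nat.card_congr (MulAction.orbitProdStabilizerEquivGroup ↥(normalizer (D.P : Set G)) (φ k))
        rw [Nat.card_prod, D.card_N, show Nat.card (MulAction.stabilizer ↥(normalizer (D.P : Set G)) (φ k)) = D.q ^ 3 from
          (D.cnt_self_eq (hφ k).1 (hφ k).2).trans D.card_P, mul_comm _ (D.q ^ 3)] at h
        refine le_trans (le_of_eq ?_) (Nat.eq_of_mul_eq_mul_left (pow_pos (by omega) 3) h).le
        rw [Nat.card_eq_fintype_card, ← Set.toFinset_card]
        exact congrArg Finset.card (Finset.ext fun ψ => by simp [hO, MulAction.mem_orbit_iff])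
      have hlin : Fintype.card D.Lin = D.q ^ 3 := by
        letI : CommGroup ↥D.P :=
          { (inferInstance : Group ↥D.P) with mul_comm := fun a b => Subtype.ext (D.P_comm _ a.2 _ b.2) }
        rw [← Nat.card_eq_fintype_card, ← D.card_P]
        exact CommGroup.card_monoidHom_of_hasEnoughRootsOfUnity ↥D.P ℂ
      have hsub : (Finset.univ : Finset D.Lin) ⊆ insert 1 (S ∪ O) := by
        intro ψ _
        simp only [Finset.mem_insert, Finset.mem_union, hS, hO, Finset.mem_filter, Finset.mem_univ, true_and]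
        by_cases h1 : ψ = 1
        · exact Or.inl h1
        by_cases hh : ∃ n : ↥(normalizer (D.P : Set G)), n • φ k = ψ
        · exact Or.inr (Or.inr hh)
        · exact Or.inr (Or.inl ⟨h1, fun n hn => hh ⟨n, hn⟩⟩)
      have h := (Finset.card_le_card hsub).trans ((Finset.card_insert_le _ _).trans
        (Nat.add_le_add_right (Finset.card_union_le _ _) 1))
      rw [Finset.card_univ, hlin] at h
      omega
    refine hS1.trans ?_
    calc S.card = ∑ _ψ ∈ S, 1 := Finset.card_eq_sum_ones _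
      _ ≤ ∑ ψ ∈ S, m k ψ := Finset.sum_le_sum fun ψ hψ => by
          obtain ⟨-, h1, h2⟩ := Finset.mem_filter.1 hψ
          rw [hkey k hk ψ h1 h2]; omega
      _ ≤ _ := Finset.sum_le_sum_of_subset (Finset.subset_univ _)
  have hdeg : ∀ k, θ k 1 = ((∑ ψ, m k ψ : ℕ) : ℂ) := by
    intro k
    have h := congrFun (hres k) 1
    simp only [OneMemClass.coe_one, Finset.sum_apply, Pi.smul_apply, smul_eq_mul] at h
    rw [h]
    push_cast
    exact Finset.sum_congr rfl fun ψ _ => by simp [fn]
  choose d hd0 hd using fun χ : IrrCharacter G => Char.IsIrr.one_eq_pos χ.2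
  have hsq : (∑ χ : IrrCharacter G, d χ ^ 2) = Nat.card G := by
    have h := Char.sum_degree_sq (G := G)
    rw [Finset.sum_congr rfl (fun χ _ => by rw [hd χ])] at h
    exact_mod_cast h
  have hle : ∑ i ∈ (Finset.univ.erase (0 : Fin (D.q + 1))), d ⟨θ i, hθ i⟩ ^ 2 ≤ Nat.card G := by
    rw [← hsq]
    refine le_trans (le_of_eq ?_) (Finset.sum_le_sum_of_subset (Finset.subset_univ
      ((Finset.univ.erase (0 : Fin (D.q + 1))).image fun i => (⟨θ i, hθ i⟩ : IrrCharacter G))))
    rw [Finset.sum_image fun i _ j _ h => hθinj (congrArg Subtype.val h)]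
  have hlow : ∀ i ∈ (Finset.univ.erase (0 : Fin (D.q + 1))), (D.q ^ 3 - D.q) ^ 2 ≤ d ⟨θ i, hθ i⟩ ^ 2 := by
    intro i hi
    refine Nat.pow_le_pow_left ((hbig i (Finset.mem_erase.1 hi).1).trans (le_of_eq ?_)) 2
    exact_mod_cast (hdeg i).symm.trans (hd ⟨θ i, hθ i⟩)
  have hfinal := (Finset.sum_le_sum hlow).trans hle
  rw [Finset.sum_const, Finset.card_erase_of_mem (Finset.mem_univ _), Finset.card_univ, Fintype.card_fin,
    add_tsub_cancel_right, smul_eq_mul, D.card_G] at hfinal
  obtain ⟨A, hA⟩ : ∃ A, D.q ^ 3 = A + D.q :=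
    ⟨D.q ^ 3 - D.q, by have := Nat.le_self_pow (show 3 ≠ 0 by norm_num) D.q; omega⟩
  obtain ⟨B, hB⟩ : ∃ B, D.q = B + 1 := ⟨D.q - 1, by omega⟩
  rw [show D.q ^ 3 - D.q = A by omega, show D.q - 1 = B by omega] at hfinal
  have hA' : (A : ℤ) = (D.q : ℤ) ^ 3 - D.q := by
    have : (D.q : ℤ) ^ 3 = A + D.q := by exact_mod_cast hA
    linarith
  have hB' : (B : ℤ) = (D.q : ℤ) - 1 := by omega
  have hf : (D.q : ℤ) * (A : ℤ) ^ 2 ≤ (D.q : ℤ) ^ 3 * ((D.q : ℤ) ^ 3 + 1) * B := by exact_mod_cast hfinal
  rw [hA', hB'] at hf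
  have hq' : (27 : ℤ) ≤ D.q := by exact_mod_cast hq
  nlinarith [pow_pos (show (0 : ℤ) < D.q by linarith) 3, pow_pos (show (0 : ℤ) < D.q by linarith) 4,
    pow_pos (show (0 : ℤ) < D.q by linarith) 5, mul_le_mul_of_nonneg_right hq' (pow_nonneg (show (0 : ℤ) ≤ D.q by linarith) 5)]

end TIData

end Cfsg.Agent.Invol.AbelTwo.ReeAbel
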