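import Cfsg.Agent.Lib.Invol.AbelTwo.ReeAbel.Psl

/-!
# An abelian Sylow 3-subgroup next to an involution centraliser `⟨t⟩ × L2(q)`

Under the order `q³(q³+1)(q-1)` such a subgroup is a TI subgroup of index `q³ + 1` in its normaliser
`P ⋊ (⟨t⟩ × Y)`, and the torus `Y` acts without fixed points on it.
-/

set_option autoImplicit false
set_option linter.unusedSectionVars false
set_option linter.style.haveILetI false

namespace Cfsg.Agent.Invol.AbelTwo.ReeAbel

open Subgroup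
open scoped Pointwise
open scoped _root_.Classical

universe u v

/-- The starting data. -/
structure Base (G : Type u) [Group G] (P : Type v) [Group P] where
  /-- the field size -/
  q : ℕ
  /-- its exponent -/
  e : ℕ
  hqe : q = 3 ^ e
  q_ge : 27 ≤ q
  /-- root subgroup, torus, Weyl element of the second factor -/
  pack : Pack P q
  /-- the involution -/
  t : G
  /-- the embedding of the second factor -/
  ι : P →* G
  inj : Function.Injective ι
  ht : orderOf t = 2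
  tc : ∀ k, ι k * t = t * ι k
  cover : ∀ c : G, c * t = t * c → ∃ k, c = ι k ∨ c = t * ι k
  t_not : ∀ k, ι k ≠ t
  conj : ∀ s : G, s * s = 1 → s ≠ 1 → ∃ g : G, g * t * g⁻¹ = s
  rigid : ∀ k : P, k ^ 3 = 1 → k ≠ 1 → ∀ a : P, ∀ j : ℕ, a ^ 2 ^ j = 1 →
    a * k * a⁻¹ = k ∨ a * k * a⁻¹ = k⁻¹ → a = 1
  comm_two : ∀ H : Subgroup G, IsPGroup 2 ↥H → ∀ a ∈ H, ∀ b ∈ H, a * b = b * a
  comm_three : ∀ (S : Sylow 3 G), ∀ a ∈ (S : Subgroup G), ∀ b ∈ (S : Subgroup G), a * b = b * a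
  card_G : Nat.card G = q ^ 3 * (q ^ 3 + 1) * (q - 1)

/-- The TI subgroup data needed by the character argument. -/
structure TIData (G : Type u) [Group G] where
  /-- the field size -/
  q : ℕ
  /-- the abelian Sylow 3-subgroup -/
  P : Subgroup G
  /-- the fixed points of `t` on it -/
  U : Subgroup G
  /-- the involution -/
  t : G
  q_ge : 27 ≤ q
  q_odd : Odd q
  card_G : Nat.card G = q ^ 3 * (q ^ 3 + 1) * (q - 1)
  card_P : Nat.card ↥P = q ^ 3
  card_U : Nat.card ↥U = q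
  UP : U ≤ P
  P_comm : ∀ a ∈ P, ∀ b ∈ P, a * b = b * a
  card_N : Nat.card ↥(normalizer (P : Set G)) = q ^ 3 * (q - 1)
  ti : ∀ g, g ∉ normalizer (P : Set G) → ∀ x ∈ P, g * x * g⁻¹ ∈ P → x = 1
  tN : t ∈ normalizer (P : Set G)
  t2 : t * t = 1
  fix_t : ∀ x ∈ P, t * x * t⁻¹ = x → x ∈ U
  U_norm : ∀ n ∈ normalizer (P : Set G), ∀ u ∈ U, n⁻¹ * u * n ∈ U
  stab : ∀ g ∈ normalizer (P : Set G), g ∈ P ∨ (∃ p ∈ P, g = p * t) ∨
    ∀ x ∈ P, g * g * x * (g * g)⁻¹ = x → x = 1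

variable {G : Type u} [Group G] {P : Type v} [Group P]

/-- An involution on a group of odd order whose fixed points lie in a central subgroup makes it commutative
modulo that subgroup. -/
theorem comm_mem_of_fix [Finite G] {O U : Subgroup G} {t : G} (ht : t * t = 1) (hOodd : Odd (Nat.card ↥O))
    (hconj : ∀ x ∈ O, t * x * t⁻¹ ∈ O) (hUc : ∀ x ∈ O, ∀ u ∈ U, x * u = u * x)
    (htU : ∀ u ∈ U, t * u * t⁻¹ = u) (hfix : ∀ x ∈ O, x * t = t * x → x ∈ U) :
    ∀ a ∈ O, ∀ b ∈ O, a * b * a⁻¹ * b⁻¹ ∈ U := by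
  let U' := U.subgroupOf O
  haveI : U'.Normal := ⟨fun u hu g => by
    rw [mem_subgroupOf] at hu ⊢
    show (g : G) * u * (g : G)⁻¹ ∈ U
    rwa [hUc g g.2 u hu, mul_inv_cancel_right]⟩
  let σ : ↥O →* ↥O := ((MulAut.conj t).toMonoidHom.comp O.subtype).codRestrict O fun x => hconj x x.2
  have hσU : U' ≤ U'.comap σ := fun u hu => by
    show t * (u : G) * t⁻¹ ∈ U
    rw [htU _ (mem_subgroupOf.1 hu)]
    exact mem_subgroupOf.1 hu
  let σq := QuotientGroup.map U' U' σ hσU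
  have hσσ : ∀ x : ↥O, σ (σ x) = x := fun x => Subtype.ext (by
    show t * (t * (x : G) * t⁻¹) * t⁻¹ = x
    calc _ = t * t * (x : G) * (t * t)⁻¹ := by group
      _ = _ := by rw [ht]; group)
  have hinvol : Function.Involutive σq := by
    intro a
    induction a using QuotientGroup.induction_on with
    | H z => simp [σq, hσσ]
  have hfpf : MonoidHom.FixedPointFree σq := by
    intro a ha
    induction a using QuotientGroup.induction_on with
    | H z =>
      rw [QuotientGroup.eq_one_iff, mem_subgroupOf]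
      rw [QuotientGroup.map_mk, QuotientGroup.eq, mem_subgroupOf] at ha
      set u := ((σ z)⁻¹ * z : ↥O) with hu
      have hzu : σ z * u = z := by rw [hu, mul_inv_cancel_left]
      have huu : σ u = u := Subtype.ext (htU _ ha)
      have hu2 : u * u = 1 := by
        have h1 : z * u = σ z := by
          have h := congrArg σ hzu
          rwa [map_mul, hσσ, huu] at h
        calc u * u = (σ z)⁻¹ * (σ z * u) * u := by group
          _ = (σ z)⁻¹ * (z * u) := by rw [hzu, mul_assoc]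
          _ = 1 := by rw [h1, inv_mul_cancel]
      have hu1 : u = 1 := by
        obtain ⟨d, hd⟩ := hOodd
        have h := pow_card_eq_one' (x := u)
        rwa [hd, pow_succ, pow_mul, pow_two, hu2, one_pow, one_mul] at h
      refine hfix z z.2 ?_
      rw [hu1, mul_one] at hzu
      have h2 : t * (z : G) * t⁻¹ = z := congrArg Subtype.val hzu
      rw [mul_inv_eq_iff_eq_mul] at h2
      exact h2.symm
  have hab := hfpf.commute_all_of_involutive hinvol
  intro a ha b hb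
  have h : ((⟨a, ha⟩ * ⟨b, hb⟩ * ⟨a, ha⟩⁻¹ * ⟨b, hb⟩⁻¹ : ↥O) : ↥O ⧸ U') = 1 := by
    rw [QuotientGroup.mk_mul, QuotientGroup.mk_mul, QuotientGroup.mk_mul, QuotientGroup.mk_inv,
      QuotientGroup.mk_inv, (hab ((⟨a, ha⟩ : ↥O) : ↥O ⧸ U') ((⟨b, hb⟩ : ↥O) : ↥O ⧸ U')).eq]
    group
  exact mem_subgroupOf.1 ((QuotientGroup.eq_one_iff _).1 h)

namespace Base

variable (S : Base G P)
include S

theorem tt : S.t * S.t = 1 := by rw [← pow_two, ← S.ht, pow_orderOf_eq_one]

theorem t_inv : S.t⁻¹ = S.t := inv_eq_of_mul_eq_one_right S.tt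

/-- An element of odd order commuting with `t` lies in the second factor. -/
theorem odd_mem {c : G} {n : ℕ} (hn : Odd n) (hc : c * S.t = S.t * c) (hcn : c ^ n = 1) :
    ∃ k, c = S.ι k ∧ k ^ n = 1 := by
  obtain ⟨k, rfl | rfl⟩ := S.cover c hc
  · exact ⟨k, rfl, S.inj (by rw [map_pow, hcn, map_one])⟩
  · exfalso
    have hcomm : Commute S.t (S.ι k) := (S.tc k).symm
    obtain ⟨d, rfl⟩ := hn
    rw [hcomm.mul_pow, pow_succ S.t, pow_mul, pow_two, S.tt, one_pow, one_mul, ← map_pow] at hcn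
    exact S.t_not (k ^ (2 * d + 1))⁻¹ (by rw [map_inv, ← eq_inv_of_mul_eq_one_left hcn])

theorem q_odd : Odd S.q := S.hqe ▸ (by decide : Odd 3).pow

theorem card_pos : 0 < S.q := lt_of_lt_of_le (by norm_num) S.q_ge

/-- No element of order three is inverted by an involution and centralised by a commuting involution. -/
theorem no_inverted [Finite G] {r s τ : G} (hr : r ^ 3 = 1) (hs : s * s = 1) (hs1 : s ≠ 1)
    (hτ : τ * τ = 1) (hτs : τ * s = s * τ) (hrs : r * s = s * r) (hinv : τ * r * τ⁻¹ = r⁻¹) : r = 1 := by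
  by_contra hr1
  obtain ⟨g, hg⟩ := S.conj s hs hs1
  have hback : ∀ x : G, x * s = s * x → g⁻¹ * x * g * S.t = S.t * (g⁻¹ * x * g) := by
    intro x hx
    calc g⁻¹ * x * g * S.t = g⁻¹ * (x * (g * S.t * g⁻¹)) * g := by group
      _ = g⁻¹ * ((g * S.t * g⁻¹) * x) * g := by rw [hg, hx]
      _ = _ := by group
  obtain ⟨k, hk, hk3⟩ := S.odd_mem (n := 3) (by decide) (hback r hrs)
    (by rw [show g⁻¹ * r * g = g⁻¹ * r * (g⁻¹)⁻¹ by group, conj_pow, hr]; group)
  have hk1 : k ≠ 1 := fun h => hr1 (by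
    rw [h, map_one] at hk
    calc r = g * (g⁻¹ * r * g) * g⁻¹ := by group
      _ = 1 := by rw [hk]; group)
  obtain ⟨a, ha⟩ := S.cover _ (hback τ hτs)
  have hc : S.ι (a * k * a⁻¹) = S.ι k⁻¹ := by
    have h1 : g⁻¹ * τ * g * S.ι k * (g⁻¹ * τ * g)⁻¹ = (S.ι k)⁻¹ := by
      rw [← hk]
      calc _ = g⁻¹ * (τ * r * τ⁻¹) * g := by group
        _ = _ := by rw [hinv]; group
    rw [map_inv, ← h1, map_mul, map_mul, map_inv]
    rcases ha with e | e <;> rw [e]
    calc S.ι a * S.ι k * (S.ι a)⁻¹ = S.t * (S.ι a * S.ι k * (S.ι a)⁻¹) * S.t⁻¹ := by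
          rw [← map_inv, ← map_mul, ← map_mul, ← S.tc, mul_inv_cancel_right]
      _ = _ := by group
  have ha2 : a ^ 2 ^ 1 = 1 := by
    refine S.inj ?_
    have h2 : g⁻¹ * τ * g * (g⁻¹ * τ * g) = 1 := by
      calc g⁻¹ * τ * g * (g⁻¹ * τ * g) = g⁻¹ * (τ * τ) * g := by group
        _ = 1 := by rw [hτ]; group
    rw [pow_one, pow_two, map_mul, map_one]
    rcases ha with e | e <;> rw [e] at h2
    · exact h2
    · rw [← h2, mul_assoc S.t, ← mul_assoc (S.ι a) S.t, S.tc a, ← mul_assoc, ← mul_assoc, S.tt, one_mul]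
  have ha1 := S.rigid k hk3 hk1 a 1 ha2 (Or.inr (S.inj hc))
  subst ha1
  have h3 : k = k⁻¹ := by simpa using S.inj hc
  refine hk1 ?_
  rw [show (3 : ℕ) = 2 + 1 from rfl, pow_succ, pow_two] at hk3
  rwa [show k * k = 1 from mul_eq_one_iff_eq_inv.2 h3, one_mul] at hk3

/-- The torus with the involution. -/
def T : Subgroup G := zpowers S.t ⊔ S.pack.Y.map S.ι

theorem mem_T {x : G} (hx : x ∈ S.T) : ∃ y ∈ S.pack.Y, x = S.ι y ∨ x = S.t * S.ι y := by
  have hn : S.pack.Y.map S.ι ≤ normalizer (zpowers S.t : Set G) := by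
    rintro _ ⟨y, -, rfl⟩
    exact centralizer_le_normalizer _ (mem_centralizer_iff.2 fun d hd => by
      obtain ⟨i, rfl⟩ := mem_zpowers_iff.1 hd
      exact ((show Commute (S.ι y) S.t from S.tc y).zpow_right i).eq.symm)
  rw [← SetLike.mem_coe, T, coe_mul_of_right_le_normalizer_left _ _ hn] at hx
  obtain ⟨d, hd, _, ⟨y, hy, rfl⟩, rfl⟩ := hx
  obtain ⟨i, rfl⟩ := mem_zpowers_iff.1 hd
  refine ⟨y, hy, ?_⟩
  show S.t ^ i * S.ι y = _ ∨ S.t ^ i * S.ι y = _
  rw [← zpow_mod_orderOf, S.ht]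
  rcases (show i % ((2 : ℕ) : ℤ) = 0 ∨ i % ((2 : ℕ) : ℤ) = 1 by omega) with h | h
    <;> simp only [Nat.cast_ofNat] at h ⊢ <;> simp [h]

theorem card_T [Finite G] [Finite P] : Nat.card ↥S.T = S.q - 1 := by
  have hbij : Function.Bijective (fun p : Bool × ↥S.pack.Y => (⟨(if p.1 then S.t else 1) * S.ι p.2, by
      refine mul_mem ?_ (mem_sup_right ⟨_, p.2.2, rfl⟩)
      split_ifs
      exacts [mem_sup_left (mem_zpowers _), one_mem _]⟩ : ↥S.T)) := by
    refine ⟨fun p p' h => ?_, fun x => ?_⟩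
    · obtain ⟨b, y⟩ := p
      obtain ⟨b', y'⟩ := p'
      have h' : (if b then S.t else 1) * S.ι y = (if b' then S.t else 1) * S.ι y' := congrArg Subtype.val h
      cases b <;> cases b' <;> simp only [Bool.false_eq_true, if_false, if_true, one_mul] at h'
      · exact Prod.ext rfl (Subtype.ext (S.inj h'))
      · refine absurd ?_ (S.t_not (y * (y' : P)⁻¹))
        rw [map_mul, map_inv, h']; group
      · refine absurd ?_ (S.t_not (y' * (y : P)⁻¹))
        rw [map_mul, map_inv, ← h']; group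
      · exact Prod.ext rfl (Subtype.ext (S.inj (mul_left_cancel h')))
    · obtain ⟨y, hy, e | e⟩ := S.mem_T x.2
      · exact ⟨(false, ⟨y, hy⟩), Subtype.ext (by simp [e])⟩
      · exact ⟨(true, ⟨y, hy⟩), Subtype.ext (by simp [e])⟩
  rw [← Nat.card_eq_of_bijective _ hbij, Nat.card_prod, Nat.card_eq_fintype_card (α := Bool), Fintype.card_bool,
    mul_comm, S.pack.card_Y]

/-- The centraliser of the root subgroup has a normal 2-complement. -/
theorem exists_odd_part [Finite G] [Finite P] :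
    ∃ K : Subgroup ↥(centralizer (S.pack.U.map S.ι : Set G)), K.Normal ∧ Odd (Nat.card ↥K) ∧
      ∀ x, Odd (orderOf x) → x ∈ K := by
  haveI : Fact (Nat.Prime 2) := ⟨Nat.prime_two⟩
  haveI : Fact (Nat.Prime 3) := ⟨Nat.prime_three⟩
  set U := S.pack.U.map S.ι with hU
  have hUcard : Nat.card ↥U = S.q := (card_map_of_injective S.inj).trans S.pack.card_U
  set X := centralizer (U : Set G) with hX
  have htX : S.t ∈ X := mem_centralizer_iff.2 fun u hu => by
    obtain ⟨a, -, rfl⟩ := hu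
    exact S.tc a
  obtain ⟨u0, hu0⟩ := exists_prime_orderOf_dvd_card' (G := ↥U) 3 (by
    rw [hUcard, S.hqe]; exact dvd_pow_self 3 (fun h0 => by
      have := S.q_ge
      rw [S.hqe, h0] at this
      norm_num at this))
  obtain ⟨T, hT⟩ := (IsPGroup.of_card (n := 1) (by
    rw [Nat.card_zpowers, orderOf_mk, S.ht, pow_one]) :
      IsPGroup 2 ↥(zpowers (⟨S.t, htX⟩ : ↥X))).exists_le_sylow
  have hTel : ∀ x ∈ (T : Subgroup ↥X), x = 1 ∨ x = ⟨S.t, htX⟩ := by
    intro x hx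
    have hc : (x : G) * S.t = S.t * x :=
      S.comm_two _ (T.isPGroup'.map X.subtype) _ ⟨x, hx, rfl⟩ _ ⟨⟨S.t, htX⟩, hT (mem_zpowers _), rfl⟩
    obtain ⟨j, hj⟩ := T.isPGroup' ⟨x, hx⟩
    have hj' : (x : G) ^ 2 ^ (j + 1) = 1 := by
      have h : (x : G) ^ 2 ^ j = 1 := congrArg (fun y : ↥(T : Subgroup ↥X) => ((y : ↥X) : G)) hj
      rw [pow_succ, pow_mul, h, one_pow]
    obtain ⟨a, ha⟩ := S.cover _ hc
    obtain ⟨⟨u1, hu1⟩, hu1'⟩ : ∃ u1 : ↥U, u1 = u0 := ⟨u0, rfl⟩
    obtain ⟨c, hcU, rfl⟩ := hu1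
    rw [← hu1'] at hu0
    replace hu0 : orderOf (S.ι c) = 3 := by rw [← hu0, ← Subgroup.orderOf_coe]
    have hc1 : c ≠ 1 := fun h => by rw [h, map_one, orderOf_one] at hu0; omega
    have hc3 : c ^ 3 = 1 := S.inj (by rw [map_pow, ← hu0, pow_orderOf_eq_one, map_one])
    have hxc : (x : G) * S.ι c = S.ι c * x := (mem_centralizer_iff.1 x.2 _ ⟨c, hcU, rfl⟩).symm
    have hcm : Commute S.t (S.ι a) := (S.tc a).symm
    have hat : S.t ^ 2 ^ (j + 1) = 1 := by rw [pow_succ', pow_mul, pow_two, S.tt, one_pow]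
    have ha1 : a = 1 := by
      refine S.rigid c hc3 hc1 a (j + 1) (S.inj ?_) (Or.inl (S.inj ?_))
      · rw [map_pow, map_one]
        rcases ha with e | e <;> rw [e] at hj'
        · exact hj'
        · rwa [hcm.mul_pow, hat, one_mul] at hj'
      · rw [map_mul, map_mul, map_inv, mul_inv_eq_iff_eq_mul]
        rcases ha with e | e <;> rw [e] at hxc
        · exact hxc
        · refine mul_left_cancel (a := S.t) ?_
          rw [← mul_assoc, hxc, ← mul_assoc, ← mul_assoc, S.tc c]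
    rcases ha with e | e <;> rw [ha1, map_one] at e
    · exact Or.inl (Subtype.ext e)
    · exact Or.inr (Subtype.ext (by rw [e, mul_one]))
  have hTt : (T : Subgroup ↥X) = zpowers ⟨S.t, htX⟩ := by
    refine le_antisymm (fun x hx => ?_) hT
    rcases hTel x hx with rfl | rfl
    exacts [one_mem _, mem_zpowers _]
  have hburn : normalizer ((T : Subgroup ↥X) : Set ↥X) ≤ centralizer ((T : Subgroup ↥X) : Set ↥X) := by
    intro n hn
    refine mem_centralizer_iff.2 fun x hx => ?_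
    have h1 := (mem_normalizer_iff.1 hn x).1 hx
    rcases hTel _ hx with rfl | rfl
    · rw [one_mul, mul_one]
    rcases hTel _ h1 with h | h
    · rw [conj_eq_one_iff] at h; rw [h, one_mul, mul_one]
    · exact (mul_inv_eq_iff_eq_mul.1 h).symm
  set K := (MonoidHom.transferSylow T hburn).ker with hK
  have hcompl : IsComplement' K (T : Subgroup ↥X) := MonoidHom.ker_transferSylow_isComplement' T hburn
  have hKT : Nat.card ↥K * 2 = Nat.card ↥X := by
    have h := hcompl.card_mul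
    rwa [show Nat.card ↥(T : Subgroup ↥X) = 2 by rw [hTt, Nat.card_zpowers, orderOf_mk, S.ht]] at h
  have hKodd : Odd (Nat.card ↥K) := by
    rw [Nat.odd_iff, ← hcompl.index_eq_card]
    have h2nd : ¬ 2 ∣ (T : Subgroup ↥X).index := T.not_dvd_index' (by rw [Subgroup.relIndex]; exact index_ne_zero_of_finite)
    have := T.not_dvd_index' (by rw [Subgroup.relIndex]; exact index_ne_zero_of_finite)
    omega
  have hKmem : ∀ x : ↥X, Odd (orderOf x) → x ∈ K := by
    intro x hx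
    have h2 : x ^ 2 ∈ K := by
      have h := pow_index_mem K x
      rwa [show K.index = 2 by
        have h := K.card_mul_index
        rw [← hKT] at h
        exact Nat.eq_of_mul_eq_mul_left Nat.card_pos h] at h
    obtain ⟨d, hd⟩ := hx
    have hx' : x = (x ^ 2) ^ (d + 1) := by
      rw [← pow_mul, show 2 * (d + 1) = orderOf x + 1 by omega, pow_succ, pow_orderOf_eq_one, one_mul]
    rw [hx']
    exact pow_mem h2 _
  exact ⟨K, inferInstance, hKodd, hKmem⟩

/-- The Sylow 3-subgroup over the root subgroup. -/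
theorem exists_sylow [Finite G] [Finite P] :
    ∃ Pg : Subgroup G, Nat.card ↥Pg = S.q ^ 3 ∧ S.pack.U.map S.ι ≤ Pg ∧
      (∀ a ∈ Pg, ∀ b ∈ Pg, a * b = b * a) ∧
      (∀ x ∈ Pg, x * S.t = S.t * x → x ∈ S.pack.U.map S.ι) ∧
      (∀ x : G, (∃ j : ℕ, x ^ 3 ^ j = 1) → x ∈ normalizer (Pg : Set G) → x ∈ Pg) ∧
      ∀ g ∈ normalizer (S.pack.U.map S.ι : Set G), g ∈ normalizer (Pg : Set G) := by
  haveI : Fact (Nat.Prime 2) := ⟨Nat.prime_two⟩
  haveI : Fact (Nat.Prime 3) := ⟨Nat.prime_three⟩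
  set U := S.pack.U.map S.ι with hU
  have hUcard : Nat.card ↥U = S.q := (card_map_of_injective S.inj).trans S.pack.card_U
  obtain ⟨Syl, hUS⟩ := (IsPGroup.of_card (n := S.e) (hUcard.trans S.hqe) : IsPGroup 3 ↥U).exists_le_sylow
  obtain ⟨k, hk⟩ := IsPGroup.iff_card.1 Syl.isPGroup'
  have hq3 : S.q ^ 3 = 3 ^ (3 * S.e) := by rw [S.hqe, ← pow_mul, mul_comm]
  have hcop : ¬ 3 ∣ (S.q ^ 3 + 1) * (S.q - 1) := by
    intro h
    have h3 : 3 ∣ S.q := by
      rw [S.hqe]
      exact dvd_pow_self 3 (fun h0 => by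
        have := S.q_ge
        rw [S.hqe, h0] at this
        norm_num at this)
    rcases Nat.prime_three.dvd_mul.1 h with h' | h'
    · have := (Nat.dvd_add_right (dvd_pow h3 (show 3 ≠ 0 by norm_num))).1 h'
      omega
    · have := S.card_pos
      omega
  have hP : Nat.card ↥(Syl : Subgroup G) = S.q ^ 3 := by
    rw [hk, hq3]
    refine congrArg _ (le_antisymm ?_ ?_)
    · have h1 : 3 ^ k ∣ 3 ^ (3 * S.e) * ((S.q ^ 3 + 1) * (S.q - 1)) := by
        rw [← hk, ← hq3, ← mul_assoc, ← S.card_G]; exact card_subgroup_dvd_card _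
      exact (Nat.pow_dvd_pow_iff_le_right (by norm_num)).1
        (((Nat.Prime.coprime_iff_not_dvd Nat.prime_three).2 hcop).pow_left k |>.dvd_of_dvd_mul_right h1)
    · refine (Nat.pow_dvd_pow_iff_le_right (show 1 < 3 by norm_num)).1 ?_
      rw [← hk]
      exact Syl.pow_dvd_card_of_pow_dvd_card (by rw [S.card_G, ← hq3]; exact ⟨_, mul_assoc _ _ _⟩)
  set Pg : Subgroup G := (Syl : Subgroup G) with hPg
  have hcomm := S.comm_three Syl
  have hfix : ∀ x ∈ Pg, x * S.t = S.t * x → x ∈ U := by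
    intro x hx hxt
    obtain ⟨j, hj⟩ := Syl.isPGroup' ⟨x, hx⟩
    obtain ⟨c, rfl, -⟩ := S.odd_mem ((by decide : Odd 3).pow (n := j)) hxt (congrArg Subtype.val hj)
    refine ⟨c, S.pack.cent_U c fun a ha => S.inj ?_, rfl⟩
    rw [map_mul, map_mul]
    exact hcomm _ hx _ (hUS ⟨a, ha, rfl⟩)
  have hnorm3 : ∀ x : G, (∃ j : ℕ, x ^ 3 ^ j = 1) → x ∈ normalizer (Pg : Set G) → x ∈ Pg := by
    rintro x ⟨j, hj⟩ hx
    have hp : IsPGroup 3 ↥(zpowers x) := by
      obtain ⟨i, -, hi⟩ := (Nat.dvd_prime_pow Nat.prime_three).1 (orderOf_dvd_of_pow_eq_one hj)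
      exact IsPGroup.of_card (n := i) (by rw [Nat.card_zpowers, hi])
    have h := Syl.is_maximal' (hp.to_sup_of_normal_right' Syl.isPGroup' (zpowers_le.2 hx)) le_sup_right
    exact h.le (mem_sup_left (mem_zpowers x))
  refine ⟨Pg, hP, hUS, hcomm, hfix, hnorm3, ?_⟩
  -- the centraliser of the root subgroup
  set X := centralizer (U : Set G) with hX
  have htX : S.t ∈ X := mem_centralizer_iff.2 fun u hu => by
    obtain ⟨a, -, rfl⟩ := hu
    exact S.tc a
  have hPX : Pg ≤ X := fun x hx => mem_centralizer_iff.2 fun u hu => hcomm u (hUS hu) x hx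
  obtain ⟨K, hKN, hKodd, hKmem⟩ := S.exists_odd_part
  haveI := hKN
  set O := K.map X.subtype with hO
  have hOX : O ≤ X := map_subtype_le K
  have hOodd : Odd (Nat.card ↥O) := by rwa [hO, card_map_of_injective X.subtype_injective]
  have hX3 : ∀ x ∈ X, (∃ j : ℕ, x ^ 3 ^ j = 1) → x ∈ O := by
    rintro x hx ⟨j, hj⟩
    refine ⟨⟨x, hx⟩, hKmem _ ?_, rfl⟩
    rw [orderOf_mk]
    exact Odd.of_dvd_nat ((by decide : Odd 3).pow (n := j)) (orderOf_dvd_of_pow_eq_one hj)
  have hUO : U ≤ O := fun u hu => hX3 u (hPX (hUS hu)) (by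
    obtain ⟨j, hj⟩ := Syl.isPGroup' ⟨u, hUS hu⟩; exact ⟨j, congrArg Subtype.val hj⟩)
  have hconjO : ∀ x ∈ O, S.t * x * S.t⁻¹ ∈ O := by
    rintro _ ⟨y, hy, rfl⟩
    exact ⟨⟨S.t, htX⟩ * y * ⟨S.t, htX⟩⁻¹, (inferInstance : K.Normal).conj_mem y hy _, rfl⟩
  have hUc : ∀ x ∈ O, ∀ u ∈ U, x * u = u * x := fun x hx u hu => (mem_centralizer_iff.1 (hOX hx) u hu).symm
  have hOfix : ∀ x ∈ O, x * S.t = S.t * x → x ∈ U := by
    intro x hx hxt
    have ho : x ^ Nat.card ↥O = 1 := congrArg Subtype.val (pow_card_eq_one' (x := (⟨x, hx⟩ : ↥O)))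
    obtain ⟨c, rfl, -⟩ := S.odd_mem hOodd hxt ho
    refine ⟨c, S.pack.cent_U c fun a ha => S.inj ?_, rfl⟩
    rw [map_mul, map_mul]
    exact hUc _ hx _ ⟨a, ha, rfl⟩
  have hcommU := comm_mem_of_fix S.tt hOodd hconjO hUc (fun u hu => by
    obtain ⟨a, -, rfl⟩ := hu
    rw [← S.tc a, mul_inv_cancel_right]) hOfix
  -- `Pg` is the set of 3-elements of `X`
  have hX3P : ∀ x ∈ X, (∃ j : ℕ, x ^ 3 ^ j = 1) → x ∈ Pg := by
    intro x hx hx3
    refine hnorm3 x hx3 ?_
    have hxO := hX3 x hx hx3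
    have hstep : ∀ g ∈ O, ∀ p ∈ Pg, g * p * g⁻¹ ∈ Pg := fun g hg p hp => by
      have h := hcommU g hg p (hX3 p (hPX hp) (by
        obtain ⟨j, hj⟩ := Syl.isPGroup' ⟨p, hp⟩; exact ⟨j, congrArg Subtype.val hj⟩))
      rw [show g * p * g⁻¹ = g * p * g⁻¹ * p⁻¹ * p by group]
      exact mul_mem (hUS h) hp
    refine mem_normalizer_iff.2 fun p => ⟨hstep x hxO p, fun h => ?_⟩
    have h' := hstep x⁻¹ (inv_mem hxO) _ h
    rwa [show x⁻¹ * (x * p * x⁻¹) * (x⁻¹)⁻¹ = p by group] at h'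
  intro g hg
  have hstep : ∀ g ∈ normalizer (U : Set G), ∀ p ∈ Pg, g * p * g⁻¹ ∈ Pg := by
    intro g hg p hp
    refine hX3P _ (mem_centralizer_iff.2 fun u hu => ?_) ?_
    · have h := mem_centralizer_iff.1 (hPX hp) _ ((mem_normalizer_iff'.1 hg (g⁻¹ * u)).2 (by simpa using hu))
      calc u * (g * p * g⁻¹) = g * ((g⁻¹ * u * g) * p) * g⁻¹ := by group
        _ = g * (p * (g⁻¹ * u * g)) * g⁻¹ := by rw [h]
        _ = g * p * g⁻¹ * u := by group
    · obtain ⟨j, hj⟩ := Syl.isPGroup' ⟨p, hp⟩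
      exact ⟨j, by rw [conj_pow, show p ^ 3 ^ j = 1 from congrArg Subtype.val hj]; group⟩
  refine mem_normalizer_iff.2 fun p => ⟨hstep g hg p, fun h => ?_⟩
  have h' := hstep g⁻¹ (inv_mem hg) _ h
  rwa [show g⁻¹ * (g * p * g⁻¹) * (g⁻¹)⁻¹ = p by group] at h'

end Base

end Cfsg.Agent.Invol.AbelTwo.ReeAbel
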