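import Cfsg.Agent.Lib.Invol.AbelTwo.ReeAbel.Local

/-!
# The TI property, the normaliser and the fixed point freeness of the torus

The conjugate `Q` of `P` by the Weyl element meets `P` trivially, so `P` has a regular orbit on its conjugates,
and the group order leaves no room for anything else.
-/

set_option autoImplicit false
set_option linter.unusedSectionVars false
set_option linter.style.haveILetI false

namespace Cfsg.Agent.Invol.AbelTwo.ReeAbel

open Subgroup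
open scoped Pointwise
open scoped _root_.Classical

universe u v

variable {G : Type u} [Group G] [Finite G] {P : Type v} [Group P] [Finite P]

namespace Base

variable (S : Base G P)
include S

/-- The Weyl element in `G`. -/
def w : G := S.ι S.pack.w

theorem ww : S.w * S.w = 1 := by rw [w, ← map_mul, S.pack.w2, map_one]

theorem w_inv : S.w⁻¹ = S.w := inv_eq_of_mul_eq_one_right S.ww

theorem w_ne : S.w ≠ 1 := fun h => S.pack.w1 (S.inj (h.trans (map_one S.ι).symm))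

theorem tw : S.t * S.w = S.w * S.t := (S.tc _).symm

variable {Pg : Subgroup G} (hP : Nat.card ↥Pg = S.q ^ 3) (hUP : S.pack.U.map S.ι ≤ Pg)
  (hcomm : ∀ a ∈ Pg, ∀ b ∈ Pg, a * b = b * a)
  (hfix : ∀ x ∈ Pg, x * S.t = S.t * x → x ∈ S.pack.U.map S.ι)
  (h3 : ∀ x : G, (∃ j : ℕ, x ^ 3 ^ j = 1) → x ∈ normalizer (Pg : Set G) → x ∈ Pg)
  (hN : ∀ g ∈ normalizer (S.pack.U.map S.ι : Set G), g ∈ normalizer (Pg : Set G))
include hP hUP hcomm hfix h3 hN

theorem isThree {x : G} (hx : x ∈ Pg) : ∃ j : ℕ, x ^ 3 ^ j = 1 := by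
  refine ⟨3 * S.e, ?_⟩
  have h : x ^ Nat.card ↥Pg = 1 := congrArg Subtype.val (pow_card_eq_one' (x := (⟨x, hx⟩ : ↥Pg)))
  rwa [hP, S.hqe, ← pow_mul, mul_comm] at h

theorem t_mem : S.t ∈ normalizer (Pg : Set G) := by
  refine hN _ (centralizer_le_normalizer _ (mem_centralizer_iff.2 fun u hu => ?_))
  obtain ⟨a, -, rfl⟩ := hu
  exact S.tc a

theorem y_mem {y : P} (hy : y ∈ S.pack.Y) : S.ι y ∈ normalizer (Pg : Set G) := by
  refine hN _ (mem_normalizer_iff.2 fun u => ⟨?_, ?_⟩)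
  · rintro ⟨a, ha, rfl⟩
    exact ⟨_, S.pack.Y_norm y hy a ha, by simp⟩
  · rintro ⟨a, ha, e⟩
    exact ⟨_, S.pack.Y_norm y⁻¹ (inv_mem hy) a ha, by rw [map_mul, map_mul, map_inv, e]; group⟩

theorem T_le : S.T ≤ normalizer (Pg : Set G) := by
  refine sup_le (zpowers_le.2 (S.t_mem hP hUP hcomm hfix h3 hN)) ?_
  rintro _ ⟨y, hy, rfl⟩
  exact S.y_mem hP hUP hcomm hfix h3 hN hy

/-- `P` meets its conjugate by the Weyl element trivially. -/
theorem inter_eq {x : G} (hx : x ∈ Pg) (hx' : S.w * x * S.w ∈ Pg) : x = 1 := by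
  have htx : ∀ z ∈ Pg, S.w * z * S.w ∈ Pg → S.t * z * S.t⁻¹ ∈ Pg ∧ S.w * (S.t * z * S.t⁻¹) * S.w ∈ Pg := by
    intro z hz hz'
    refine ⟨(mem_normalizer_iff.1 (S.t_mem hP hUP hcomm hfix h3 hN) z).1 hz, ?_⟩
    have h := (mem_normalizer_iff.1 (S.t_mem hP hUP hcomm hfix h3 hN) _).1 hz'
    convert h using 1
    calc S.w * (S.t * z * S.t⁻¹) * S.w = (S.w * S.t) * z * (S.t⁻¹ * S.w) := by group
      _ = (S.t * S.w) * z * (S.w * S.t⁻¹) := by
        rw [S.tw, S.t_inv, S.tw]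
      _ = _ := by group
  -- fixed points of `t` in the intersection are trivial
  have hfix1 : ∀ z ∈ Pg, S.w * z * S.w ∈ Pg → S.t * z * S.t⁻¹ = z → z = 1 := by
    intro z hz hz' hzt
    rw [mul_inv_eq_iff_eq_mul] at hzt
    obtain ⟨a, ha, rfl⟩ := hfix z hz hzt.symm
    have hc : S.w * S.ι a * S.w * S.t = S.t * (S.w * S.ι a * S.w) := by
      rw [w, ← map_mul, ← map_mul, S.tc]
    obtain ⟨b, hb, hba⟩ := hfix _ hz' hc
    rw [w, ← map_mul, ← map_mul] at hba
    have hmem : a ∈ S.pack.U ⊓ S.pack.U.map (MulAut.conj S.pack.w).toMonoidHom :=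
      ⟨ha, b, hb, by
        show S.pack.w * b * S.pack.w⁻¹ = a
        rw [S.inj hba, inv_eq_of_mul_eq_one_right S.pack.w2]
        simp [mul_assoc, S.pack.w2]
        rw [← mul_assoc, S.pack.w2, one_mul]⟩
    rw [S.pack.opp, mem_bot] at hmem
    rw [hmem, map_one]
  have hinv : S.t * x * S.t⁻¹ = x⁻¹ := by
    obtain ⟨h1, h2⟩ := htx x hx hx'
    have hy := hfix1 (x * (S.t * x * S.t⁻¹)) (mul_mem hx h1) (by
      have h := mul_mem hx' h2
      convert h using 1
      calc S.w * (x * (S.t * x * S.t⁻¹)) * S.w = S.w * x * (S.w * S.w) * (S.t * x * S.t⁻¹) * S.w := by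
            rw [S.ww]; group
        _ = _ := by group) (by
      rw [show S.t * (x * (S.t * x * S.t⁻¹)) * S.t⁻¹ = S.t * x * S.t⁻¹ * (S.t * S.t * x * (S.t * S.t)⁻¹) by group,
        S.tt, inv_one, mul_one, one_mul]
      exact hcomm _ h1 _ hx)
    exact eq_inv_of_mul_eq_one_right hy
  -- `x` commutes with the Weyl element
  have hcw : x * S.w = S.w * x := by
    have hle : S.pack.U ⊔ S.pack.U.map (MulAut.conj S.pack.w).toMonoidHom ≤
        (centralizer ({x} : Set G)).comap S.ι := by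
      refine sup_le (fun a ha => ?_) ?_
      · exact mem_centralizer_singleton_iff.2 (hcomm _ (hUP ⟨a, ha, rfl⟩) _ hx)
      · rintro _ ⟨a, ha, rfl⟩
        refine mem_centralizer_singleton_iff.2 ?_
        have h := hcomm _ (hUP ⟨a, ha, rfl⟩) _ hx'
        simp only [MulEquiv.toMonoidHom_eq_coe, MonoidHom.coe_coe, MulAut.conj_apply, map_mul, map_inv]
        change S.w * S.ι a * S.w⁻¹ * x = x * (S.w * S.ι a * S.w⁻¹)
        rw [S.w_inv]
        calc S.w * S.ι a * S.w * x = S.w * (S.ι a * (S.w * x * S.w)) * (S.w * S.w)⁻¹ * S.w := by group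
          _ = S.w * ((S.w * x * S.w) * S.ι a) * (S.w * S.w)⁻¹ * S.w := by rw [h]
          _ = (S.w * S.w) * x * S.w * S.ι a * S.w := by rw [show (S.w * S.w)⁻¹ = 1 by rw [S.ww, inv_one]]; group
          _ = _ := by rw [S.ww]; group
    exact (mem_centralizer_singleton_iff.1 (hle S.pack.w_mem)).symm
  by_contra hx1
  obtain ⟨j, hj⟩ := S.isThree hP hUP hcomm hfix h3 hN hx
  induction j with
  | zero => exact hx1 (by simpa using hj)
  | succ j ih =>
    refine ih ?_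
    refine S.no_inverted (r := x ^ 3 ^ j) (by rw [← pow_mul, ← pow_succ, hj]) S.ww S.w_ne S.tt S.tw
      ((Commute.pow_left hcw _).eq) ?_
    rw [← conj_pow, hinv, inv_pow]

theorem card_PT : S.q ^ 3 * (S.q - 1) ≤ Nat.card ↥(normalizer (Pg : Set G)) ∧
    Nat.card ↥(Pg ⊔ S.T) = S.q ^ 3 * (S.q - 1) ∧ Pg ⊓ S.T = ⊥ := by
  have hcop : (Nat.card ↥Pg).Coprime (Nat.card ↥S.T) := by
    rw [hP, S.card_T, S.hqe]
    refine ((Nat.Prime.coprime_iff_not_dvd Nat.prime_three).2 fun h => ?_).pow_left _ |>.pow_left _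
    have h3q : 3 ∣ 3 ^ S.e := dvd_pow_self 3 (fun h0 => by
      have := S.q_ge
      rw [S.hqe, h0] at this
      norm_num at this)
    have := S.q_ge
    rw [S.hqe] at this
    omega
  have hinf : Pg ⊓ S.T = ⊥ := Subgroup.inf_eq_bot_of_coprime hcop
  have hle : Pg ⊔ S.T ≤ normalizer (Pg : Set G) := sup_le le_normalizer (S.T_le hP hUP hcomm hfix h3 hN)
  have hc := Grp.card_sup_mul_card_inf (H := S.T) (N := Pg) (S.T_le hP hUP hcomm hfix h3 hN)
  rw [inf_comm, hinf, card_bot, mul_one, sup_comm, hP, S.card_T] at hc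
  have hc' : Nat.card ↥(Pg ⊔ S.T) = S.q ^ 3 * (S.q - 1) := by rw [hc, mul_comm]
  exact ⟨hc' ▸ Nat.card_le_card_of_injective _ (Subgroup.inclusion_injective hle), hc', hinf⟩

theorem w_not_mem : S.w ∉ normalizer (Pg : Set G) := by
  intro hw
  obtain ⟨a, ha, ha1⟩ : ∃ a ∈ S.pack.U, a ≠ 1 := by
    by_contra hh
    push Not at hh
    have h := S.pack.card_U
    rw [(eq_bot_iff_forall _).2 hh, card_bot] at h
    have := S.q_ge
    omega
  refine ha1 (S.inj ((S.inter_eq hP hUP hcomm hfix h3 hN (hUP ⟨a, ha, rfl⟩) ?_).trans (map_one _).symm))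
  have h := (mem_normalizer_iff.1 hw _).1 (hUP ⟨a, ha, rfl⟩)
  rwa [S.w_inv] at h

theorem orbit_inj {p p' : G} (hp : p ∈ Pg) (hp' : p' ∈ Pg)
    (h : S.w⁻¹ * p⁻¹ * (p' * S.w) ∈ normalizer (Pg : Set G)) : p = p' := by
  have hd : p⁻¹ * p' ∈ Pg := mul_mem (inv_mem hp) hp'
  have hc : S.w * (p⁻¹ * p') * S.w ∈ Pg := by
    refine h3 _ ?_ ?_
    · obtain ⟨j, hj⟩ := S.isThree hP hUP hcomm hfix h3 hN hd
      exact ⟨j, by rw [show S.w * (p⁻¹ * p') * S.w = S.w * (p⁻¹ * p') * S.w⁻¹ by rw [S.w_inv], conj_pow, hj]; group⟩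
    · convert h using 1
      rw [S.w_inv]; group
  exact inv_mul_eq_one.1 (S.inter_eq hP hUP hcomm hfix h3 hN hd hc)

/-- The index, the normaliser, and the double coset decomposition. -/
theorem normalizer_eq :
    normalizer (Pg : Set G) = Pg ⊔ S.T ∧
      ∀ g : G, g ∉ normalizer (Pg : Set G) → ∃ p ∈ Pg, ∃ n ∈ normalizer (Pg : Set G), g = p * S.w * n := by
  set N := normalizer (Pg : Set G) with hNdef
  haveI : Finite (G ⧸ N) := inferInstance
  let f : Option ↥Pg → G ⧸ N := fun o => o.elim ((1 : G) : G ⧸ N) fun p => (((p : G) * S.w : G) : G ⧸ N)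
  have hne : ∀ p : ↥Pg, ((1 : G) : G ⧸ N) ≠ (((p : G) * S.w : G) : G ⧸ N) := fun p h => by
    rw [QuotientGroup.eq, inv_one, one_mul] at h
    exact S.w_not_mem hP hUP hcomm hfix h3 hN (by
      have h' := mul_mem (inv_mem (le_normalizer p.2 : (p : G) ∈ N)) h
      rwa [inv_mul_cancel_left] at h')
  have hf : Function.Injective f := by
    rintro (_ | p) (_ | p') h
    · rfl
    · exact absurd h (hne p')
    · exact absurd h.symm (hne p)
    · change (((p : G) * S.w : G) : G ⧸ N) = (((p' : G) * S.w : G) : G ⧸ N) at h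
      rw [QuotientGroup.eq, _root_.mul_inv_rev] at h
      exact congrArg some (Subtype.ext (S.orbit_inj hP hUP hcomm hfix h3 hN p.2 p'.2 h))
  have hge : S.q ^ 3 + 1 ≤ N.index := by
    rw [← hP, ← Finite.card_option]
    exact Nat.card_le_card_of_injective f hf
  obtain ⟨hN1, hPT, -⟩ := S.card_PT hP hUP hcomm hfix h3 hN
  have hq1 : 0 < S.q - 1 := by have := S.q_ge; omega
  have hpos : 0 < S.q ^ 3 * (S.q - 1) := Nat.mul_pos (pow_pos S.card_pos 3) hq1
  have hmul : Nat.card ↥N * N.index = S.q ^ 3 * (S.q - 1) * (S.q ^ 3 + 1) := by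
    rw [N.card_mul_index, S.card_G]; ring
  have hindex : N.index = S.q ^ 3 + 1 := by
    refine le_antisymm ?_ hge
    by_contra hh
    have : S.q ^ 3 * (S.q - 1) * (S.q ^ 3 + 1) < Nat.card ↥N * N.index :=
      lt_of_lt_of_le (Nat.mul_lt_mul_of_pos_left (not_le.1 hh) hpos) (Nat.mul_le_mul_right _ hN1)
    omega
  have hNcard : Nat.card ↥N = S.q ^ 3 * (S.q - 1) := by
    rw [hindex] at hmul
    exact Nat.eq_of_mul_eq_mul_right (Nat.succ_pos _) hmul
  refine ⟨(eq_of_le_of_card_ge (sup_le le_normalizer (S.T_le hP hUP hcomm hfix h3 hN))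
    (by rw [hPT]; exact hNcard.le)).symm, fun g hg => ?_⟩
  have hsurj : Function.Surjective f :=
    (hf.bijective_of_nat_card_le (by
      rw [show Nat.card (G ⧸ N) = N.index from rfl, hindex, Finite.card_option, hP])).2
  obtain ⟨o, ho⟩ := hsurj (g : G ⧸ N)
  rcases o with _ | p
  · exfalso
    refine hg ?_
    change ((1 : G) : G ⧸ N) = (g : G ⧸ N) at ho
    rwa [QuotientGroup.eq, inv_one, one_mul] at ho
  · change (((p : G) * S.w : G) : G ⧸ N) = (g : G ⧸ N) at ho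
    exact ⟨p, p.2, _, QuotientGroup.eq.1 ho, by group⟩

theorem ti {g : G} (hg : g ∉ normalizer (Pg : Set G)) {x : G} (hx : x ∈ Pg) (hgx : g * x * g⁻¹ ∈ Pg) : x = 1 := by
  obtain ⟨p, hp, n, hn, rfl⟩ := (S.normalizer_eq hP hUP hcomm hfix h3 hN).2 g hg
  have hx' := (mem_normalizer_iff.1 hn x).1 hx
  have h : S.w * (n * x * n⁻¹) * S.w ∈ Pg := by
    have h' := mul_mem (mul_mem (inv_mem hp) hgx) hp
    convert h' using 1
    rw [show p⁻¹ * (p * S.w * n * x * (p * S.w * n)⁻¹) * p = S.w * (n * x * n⁻¹) * S.w⁻¹ by group, S.w_inv]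
  exact conj_eq_one_iff.1 (S.inter_eq hP hUP hcomm hfix h3 hN hx' h)

/-- The torus has no fixed points on `P`. -/
theorem torus_free {y : P} (hy : y ∈ S.pack.Y) (hy1 : y ≠ 1) {x : G} (hx : x ∈ Pg)
    (hxy : x * S.ι y = S.ι y * x) : x = 1 := by
  haveI : Fact (Nat.Prime 3) := ⟨Nat.prime_three⟩
  by_contra hx1
  set N := normalizer (Pg : Set G) with hNdef
  set C := centralizer ({S.ι y} : Set G) with hC
  have hwy : S.w * S.ι y * S.w = S.ι y⁻¹ := by
    conv_lhs => rw [show S.w * S.ι y * S.w = S.w * S.ι y * S.w⁻¹ by rw [S.w_inv]]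
    rw [w, ← map_inv, ← map_mul, ← map_mul, S.pack.w_Y y hy]
  set x' := S.w * x * S.w with hx'
  have hxC : x ∈ C := mem_centralizer_singleton_iff.2 hxy
  have hx'C : x' ∈ C := by
    refine mem_centralizer_singleton_iff.2 ?_
    have h1 : x * S.ι y⁻¹ = S.ι y⁻¹ * x := by
      rw [map_inv]; exact (Commute.inv_right (show Commute x (S.ι y) from hxy)).eq
    calc x' * S.ι y = S.w * x * (S.w * S.ι y * S.w) * (S.w * S.w)⁻¹ * S.w := by rw [hx']; group
      _ = S.w * (x * S.ι y⁻¹) * S.w := by rw [hwy, S.ww]; group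
      _ = S.w * ((S.w * S.ι y * S.w) * x) * S.w := by rw [h1, hwy]
      _ = S.w * S.w * S.ι y * (S.w * x * S.w) := by group
      _ = _ := by rw [S.ww, one_mul]
  -- a 3-element fixing a coset lies in the corresponding conjugate
  have hfixed : ∀ z ∈ Pg, z ≠ 1 → ∀ a g : G, (a * z * a⁻¹) • (g : G ⧸ N) = (g : G ⧸ N) →
      (g : G ⧸ N) = (a : G ⧸ N) := by
    intro z hz hz1 a g h
    rw [MulAction.Quotient.smul_coe, smul_eq_mul, QuotientGroup.eq] at h
    have hzN : (g⁻¹ * a) * z * (g⁻¹ * a)⁻¹ ∈ N := by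
      rw [show (g⁻¹ * a) * z * (g⁻¹ * a)⁻¹ = ((a * z * a⁻¹ * g)⁻¹ * g)⁻¹ by group]
      exact inv_mem h
    obtain ⟨j, hj⟩ := S.isThree hP hUP hcomm hfix h3 hN hz
    have hzP := h3 _ ⟨j, by rw [conj_pow, hj]; group⟩ hzN
    rw [QuotientGroup.eq]
    by_contra hh
    exact hz1 (S.ti hP hUP hcomm hfix h3 hN hh hz hzP)
  -- the orbit of the base point under the centraliser
  set b : G ⧸ N := ((1 : G) : G ⧸ N) with hb
  set b' : G ⧸ N := (S.w : G ⧸ N) with hb'
  have hmod : ∀ z : ↥C, (∃ j : ℕ, (z : G) ^ 3 ^ j = 1) → ∀ c : G ⧸ N, (∀ o, z • o = o → o = c) →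
      z • c = c → Nat.card (MulAction.orbit (↥C) b) ≡ (if c ∈ MulAction.orbit (↥C) b then 1 else 0) [MOD 3] := by
    rintro z ⟨j, hj⟩ c huniq hfixc
    obtain ⟨i, -, hi⟩ := (Nat.dvd_prime_pow Nat.prime_three).1
      (orderOf_dvd_of_pow_eq_one (show z ^ 3 ^ j = 1 from Subtype.ext (by simpa using hj)))
    have hp : IsPGroup 3 ↥(zpowers z) := IsPGroup.of_card (n := i) (by rw [Nat.card_zpowers, hi])
    refine (hp.card_modEq_card_fixedPoints (MulAction.orbit (↥C) b)).trans ?_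
    have hfp : ∀ o : MulAction.orbit (↥C) b, o ∈ MulAction.fixedPoints ↥(zpowers z) (MulAction.orbit (↥C) b) ↔
        (o : G ⧸ N) = c := by
      intro o
      constructor
      · intro h
        exact huniq _ (congrArg Subtype.val (h ⟨z, mem_zpowers z⟩))
      · intro h g
        refine Subtype.ext ?_
        show (g : ↥C) • (o : G ⧸ N) = o
        rw [h]
        have hst : zpowers z ≤ MulAction.stabilizer (↥C) c := zpowers_le.2 hfixc
        exact hst g.2
    split_ifs with hc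
    · rw [show Nat.card (MulAction.fixedPoints ↥(zpowers z) (MulAction.orbit (↥C) b)) = 1 from
        Nat.card_eq_one_iff_unique.2 ⟨⟨fun o o' => Subtype.ext (Subtype.ext
          (((hfp _).1 o.2).trans ((hfp _).1 o'.2).symm))⟩, ⟨⟨⟨c, hc⟩, (hfp _).2 rfl⟩⟩⟩]
    · rw [show Nat.card (MulAction.fixedPoints ↥(zpowers z) (MulAction.orbit (↥C) b)) = 0 from
        Nat.card_eq_zero.2 (Or.inl ⟨fun o => hc ((hfp _).1 o.2 ▸ o.1.2)⟩)]
  have hx'3 : ∃ j : ℕ, x' ^ 3 ^ j = 1 := by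
    obtain ⟨j, hj⟩ := S.isThree hP hUP hcomm hfix h3 hN hx
    exact ⟨j, by rw [hx', show S.w * x * S.w = S.w * x * S.w⁻¹ by rw [S.w_inv], conj_pow, hj]; group⟩
  have h1 := hmod ⟨x, hxC⟩ (S.isThree hP hUP hcomm hfix h3 hN hx) b
    (fun o ho => by
      obtain ⟨g, rfl⟩ := QuotientGroup.mk_surjective o
      refine hfixed x hx hx1 1 g ?_
      rw [show (1 : G) * x * 1⁻¹ = x by group]
      exact ho) (by
      show x • b = b
      rw [hb, MulAction.Quotient.smul_coe, smul_eq_mul, mul_one, QuotientGroup.eq, mul_one]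
      exact inv_mem (le_normalizer hx))
  rw [if_pos (MulAction.mem_orbit_self b)] at h1
  have hwb : b' ∈ MulAction.orbit (↥C) b := by
    by_contra hnot
    have h0 := hmod ⟨x', hx'C⟩ hx'3 b'
      (fun o ho => by
        obtain ⟨g, rfl⟩ := QuotientGroup.mk_surjective o
        refine hfixed x hx hx1 S.w g ?_
        rw [show S.w * x * S.w⁻¹ = x' by rw [hx', S.w_inv]]
        exact ho) (by
        show x' • b' = b'
        rw [hb', MulAction.Quotient.smul_coe, smul_eq_mul, QuotientGroup.eq, hx',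
          show (S.w * x * S.w * S.w)⁻¹ * S.w = S.w⁻¹ * S.w⁻¹ * x⁻¹ * (S.w⁻¹ * S.w) by group,
          inv_mul_cancel, mul_one, ← _root_.mul_inv_rev, S.ww, inv_one, one_mul]
        exact inv_mem (le_normalizer hx))
    rw [if_neg hnot] at h0
    exact absurd (h1.symm.trans h0) (by decide)
  obtain ⟨c, hc⟩ := hwb
  have hn : (c : G)⁻¹ * S.w ∈ N := by
    change (c : G) • b = b' at hc
    rw [hb, hb', MulAction.Quotient.smul_coe, smul_eq_mul, mul_one, QuotientGroup.eq] at hc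
    exact hc
  -- it inverts `y`, but the normaliser centralises the torus modulo `P`
  have hcy : (c : G) * S.ι y = S.ι y * c := mem_centralizer_singleton_iff.1 c.2
  have hinvy : (c : G)⁻¹ * S.w * S.ι y * ((c : G)⁻¹ * S.w)⁻¹ = S.ι y⁻¹ := by
    rw [show (c : G)⁻¹ * S.w * S.ι y * ((c : G)⁻¹ * S.w)⁻¹ = (c : G)⁻¹ * (S.w * S.ι y * S.w⁻¹) * c by group,
      S.w_inv, hwy, map_inv]
    calc (c : G)⁻¹ * (S.ι y)⁻¹ * c = (S.ι y * c)⁻¹ * c := by group
      _ = ((c : G) * S.ι y)⁻¹ * c := by rw [hcy]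
      _ = _ := by group
  rw [hNdef, (S.normalizer_eq hP hUP hcomm hfix h3 hN).1, ← SetLike.mem_coe,
    coe_mul_of_right_le_normalizer_left _ _ (S.T_le hP hUP hcomm hfix h3 hN)] at hn
  obtain ⟨p, hp, τ, hτ, hpτ⟩ := hn
  have hτy : τ * S.ι y * τ⁻¹ = S.ι y := by
    obtain ⟨z, hz, rfl | rfl⟩ := S.mem_T hτ
    · rw [← map_inv, ← map_mul, ← map_mul, S.pack.Y_comm z hz y hy, mul_inv_cancel_right]
    · rw [show S.t * S.ι z * S.ι y * (S.t * S.ι z)⁻¹ = S.t * (S.ι z * S.ι y * (S.ι z)⁻¹) * S.t⁻¹ by group,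
        ← map_inv, ← map_mul, ← map_mul, S.pack.Y_comm z hz y hy, mul_inv_cancel_right, ← S.tc,
        mul_inv_cancel_right]
  change p * τ = _ at hpτ
  rw [← hpτ, show p * τ * S.ι y * (p * τ)⁻¹ = p * (τ * S.ι y * τ⁻¹) * p⁻¹ by group, hτy] at hinvy
  have hyP : S.ι y * S.ι y ∈ Pg := by
    have h := (mem_normalizer_iff.1 (S.y_mem hP hUP hcomm hfix h3 hN hy) p).1 hp
    have e : S.ι y * S.ι y = S.ι y * p * (S.ι y)⁻¹ * p⁻¹ := by
      calc S.ι y * S.ι y = S.ι y * (p * S.ι y * p⁻¹)⁻¹ := by rw [hinvy, map_inv, inv_inv]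
        _ = _ := by group
    rw [e]; exact mul_mem h (inv_mem hp)
  have hyT : S.ι y * S.ι y ∈ S.T := mul_mem (mem_sup_right ⟨y, hy, rfl⟩) (mem_sup_right ⟨y, hy, rfl⟩)
  have hy2 : S.ι (y * y) = S.ι 1 := by
    have h : S.ι y * S.ι y ∈ Pg ⊓ S.T := ⟨hyP, hyT⟩
    rw [(S.card_PT hP hUP hcomm hfix h3 hN).2.2, mem_bot] at h
    rw [map_mul, h, map_one]
  obtain ⟨d, hd⟩ := S.pack.Y_odd
  have h := pow_card_eq_one' (x := (⟨y, hy⟩ : ↥S.pack.Y))
  rw [hd] at h
  have h' : y ^ (2 * d + 1) = 1 := congrArg Subtype.val h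
  rw [pow_succ, pow_mul, pow_two, S.inj hy2, one_pow, one_mul] at h'
  exact hy1 h'

end Base

/-- The TI data. -/
theorem Base.tiData (S : Base G P) : Nonempty (TIData G) := by
  obtain ⟨Pg, hP, hUP, hcomm, hfix, h3, hN⟩ := S.exists_sylow
  obtain ⟨hNeq, -⟩ := S.normalizer_eq hP hUP hcomm hfix h3 hN
  obtain ⟨-, hPT, -⟩ := S.card_PT hP hUP hcomm hfix h3 hN
  exact ⟨{
    q := S.q
    P := Pg
    U := S.pack.U.map S.ι
    t := S.t
    q_ge := S.q_ge
    q_odd := S.q_odd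
    card_G := S.card_G
    card_P := hP
    card_U := (card_map_of_injective S.inj).trans S.pack.card_U
    UP := hUP
    P_comm := hcomm
    card_N := hNeq ▸ hPT
    ti := fun g hg x hx h => S.ti hP hUP hcomm hfix h3 hN hg hx h
    tN := S.t_mem hP hUP hcomm hfix h3 hN
    t2 := S.tt
    fix_t := fun x hx h => hfix x hx (mul_inv_eq_iff_eq_mul.1 h).symm
    U_norm := fun g hg u hu => by
      rw [hNeq, ← SetLike.mem_coe,
        coe_mul_of_right_le_normalizer_left _ _ (S.T_le hP hUP hcomm hfix h3 hN)] at hg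
      obtain ⟨p, hp, τ, hτ, rfl⟩ := hg
      obtain ⟨a, ha, rfl⟩ := hu
      show (p * τ)⁻¹ * S.ι a * (p * τ) ∈ _
      rw [show (p * τ)⁻¹ * S.ι a * (p * τ) = τ⁻¹ * (p⁻¹ * (S.ι a * p)) * τ by group,
        hcomm _ (hUP ⟨a, ha, rfl⟩) p hp, inv_mul_cancel_left]
      obtain ⟨y, hy, rfl | rfl⟩ := S.mem_T hτ
      · refine ⟨y⁻¹ * a * y, by simpa using S.pack.Y_norm y⁻¹ (inv_mem hy) a ha, by simp⟩
      · refine ⟨y⁻¹ * a * y, by simpa using S.pack.Y_norm y⁻¹ (inv_mem hy) a ha, ?_⟩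
        rw [map_mul, map_mul, map_inv, _root_.mul_inv_rev,
          show (S.ι y)⁻¹ * S.t⁻¹ * S.ι a * (S.t * S.ι y) = (S.ι y)⁻¹ * (S.t⁻¹ * (S.ι a * S.t)) * S.ι y by group,
          S.tc a, inv_mul_cancel_left]
    stab := fun g hg => by
      rw [hNeq, ← SetLike.mem_coe,
        coe_mul_of_right_le_normalizer_left _ _ (S.T_le hP hUP hcomm hfix h3 hN)] at hg
      obtain ⟨p, hp, τ, hτ, rfl⟩ := hg
      obtain ⟨y, hy, hτy⟩ := S.mem_T hτ
      by_cases hy1 : y = 1
      · subst hy1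
        rw [map_one, mul_one] at hτy
        rcases hτy with rfl | rfl
        · exact Or.inl (by simpa using hp)
        · exact Or.inr (Or.inl ⟨p, hp, rfl⟩)
      refine Or.inr (Or.inr fun x hx hfx => ?_)
      have hy2 : y * y ≠ 1 := fun h => hy1 (by
        obtain ⟨d, hd⟩ := S.pack.Y_odd
        have h' := pow_card_eq_one' (x := (⟨y, hy⟩ : ↥S.pack.Y))
        rw [hd] at h'
        have h'' : y ^ (2 * d + 1) = 1 := congrArg Subtype.val h'
        rwa [pow_succ, pow_mul, pow_two, h, one_pow, one_mul] at h'')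
      refine S.torus_free hP hUP hcomm hfix h3 hN (mul_mem hy hy) hy2 hx ?_
      have hττ : τ * τ = S.ι (y * y) := by
        rcases hτy with rfl | rfl
        · rw [map_mul]
        · rw [map_mul, mul_assoc S.t, ← mul_assoc (S.ι y) S.t, S.tc, ← mul_assoc, ← mul_assoc, S.tt, one_mul]
      have hτN := S.T_le hP hUP hcomm hfix h3 hN hτ
      set p' := p * (τ * p * τ⁻¹) with hp'
      have hp'P : p' ∈ Pg := mul_mem hp ((mem_normalizer_iff.1 hτN p).1 hp)
      have hy2N := S.y_mem hP hUP hcomm hfix h3 hN (mul_mem hy hy)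
      have hx2 := (mem_normalizer_iff.1 hy2N x).1 hx
      change p * τ * (p * τ) * x * (p * τ * (p * τ))⁻¹ = x at hfx
      rw [show p * τ * (p * τ) = p' * (τ * τ) by rw [hp']; group, hττ,
        show p' * S.ι (y * y) * x * (p' * S.ι (y * y))⁻¹ = p' * (S.ι (y * y) * x * (S.ι (y * y))⁻¹) * p'⁻¹ by group,
        hcomm p' hp'P _ hx2, mul_inv_cancel_right, mul_inv_eq_iff_eq_mul] at hfx
      exact hfx.symm }⟩

end Cfsg.Agent.Invol.AbelTwo.ReeAbel
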