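import Cfsg.Agent.Lib.Invol.AbelTwo.Hub
import Cfsg.Agent.Lib.Invol.AbelTwo.ThreeElts
import Cfsg.Agent.Lib.Invol.AbelTwo.ReeAbel.TI
import Cfsg.Agent.Lib.Invol.AbelTwo.ReeAbel.Final

/-!
# Simple groups with all Sylow subgroups abelian

Modulo the Janko–Thompson–Ward theorem.
-/

set_option autoImplicit false
set_option linter.unusedSectionVars false
set_option linter.style.haveILetI false

namespace Cfsg.Agent.Invol.AbelTwo

open Subgroup
open scoped _root_.Classical

universe u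

variable {G : Type u} [Group G] [Finite G]

/-- The Ree case does not have abelian Sylow 3-subgroups. -/
theorem not_abelian_three [IsSimpleGroup G] (hG : ¬ IsMulCommutative G)
    (h3 : ∀ (S : Sylow 3 G), IsMulCommutative ↥(S : Subgroup G)) {t : G} (ht : orderOf t = 2)
    (hodd : Odd (centralizer ({t} : Set G)).index) {L : Subgroup G}
    (hL : Cfsg.IsInternalDirectProduct (zpowers t) L (centralizer ({t} : Set G)))
    {F : Type} [Field F] [Fintype F] {m : ℕ} (hm : 1 ≤ m) (hF : Fintype.card F = 3 ^ (2 * m + 1))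
    (e : ↥L ≃* Matrix.ProjectiveSpecialLinearGroup (Fin 2) F)
    (hord : Nat.card G = (3 ^ (2 * m + 1)) ^ 3 * ((3 ^ (2 * m + 1)) ^ 3 + 1) * (3 ^ (2 * m + 1) - 1)) : False := by
  obtain ⟨-, -, hcomm, hinf, hsup⟩ := hL
  let ι : Matrix.ProjectiveSpecialLinearGroup (Fin 2) F →* G := L.subtype.comp e.symm.toMonoidHom
  have hmem : ∀ k, ι k ∈ L := fun k => (e.symm k).2
  have htc : ∀ k, ι k * t = t * ι k := fun k => (hcomm t (mem_zpowers t) _ (hmem k)).symm
  have hinj : Function.Injective ι := Subtype.val_injective.comp e.symm.injective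
  have hn : L ≤ normalizer (zpowers t : Set G) := fun k hk => centralizer_le_normalizer _
    (mem_centralizer_iff.2 fun d hd => hcomm d hd k hk)
  have hcover : ∀ c : G, c * t = t * c → ∃ k, c = ι k ∨ c = t * ι k := by
    intro c hc
    have hc' : c ∈ zpowers t ⊔ L := by rw [hsup]; exact mem_centralizer_singleton_iff.2 hc
    rw [← SetLike.mem_coe, coe_mul_of_right_le_normalizer_left _ _ hn] at hc'
    obtain ⟨d, hd, k, hk, rfl⟩ := hc'
    obtain ⟨i, rfl⟩ := mem_zpowers_iff.1 hd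
    refine ⟨e ⟨k, hk⟩, ?_⟩
    show t ^ i * k = ι (e ⟨k, hk⟩) ∨ t ^ i * k = t * ι (e ⟨k, hk⟩)
    rw [show ι (e ⟨k, hk⟩) = k by simp [ι], ← zpow_mod_orderOf, ht]
    rcases (show i % ((2 : ℕ) : ℤ) = 0 ∨ i % ((2 : ℕ) : ℤ) = 1 by omega) with h | h
      <;> simp only [Nat.cast_ofNat] at h ⊢ <;> simp [h]
  have htnot : ∀ k, ι k ≠ t := fun k hk => by
    have h1 : t ∈ zpowers t ⊓ L := ⟨mem_zpowers t, hk ▸ hmem k⟩
    rw [hinf, mem_bot] at h1
    rw [h1, orderOf_one] at ht
    norm_num at ht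
  obtain ⟨D, -⟩ := Spor.Gold.nonempty_kData F hm hF
  let T : Spor.Gold.Setting G (Matrix.ProjectiveSpecialLinearGroup (Fin 2) F) :=
    { D := D, t := t, ι := ι, inj := hinj, ht := ht, hodd := hodd, tc := htc, cover := hcover, t_not := htnot }
  have h27 : 27 ≤ 3 ^ (2 * m + 1) :=
    le_trans (show 27 ≤ 3 ^ 3 by norm_num) (Nat.pow_le_pow_right (by norm_num) (by omega))
  obtain ⟨pk⟩ := ReeAbel.exists_pack (F := F) (by rw [hF, pow_succ, pow_mul, Nat.mul_mod, Nat.pow_mod]; norm_num)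
  let S : ReeAbel.Base G (Matrix.ProjectiveSpecialLinearGroup (Fin 2) F) :=
    { q := Fintype.card F
      e := 2 * m + 1
      hqe := hF
      q_ge := hF ▸ h27
      pack := pk
      t := t
      ι := ι
      inj := hinj
      ht := ht
      tc := htc
      cover := hcover
      t_not := htnot
      conj := fun s hs hs1 => T.conj_t hG hs hs1
      rigid := fun k hk hk1 a j ha h => psl_three_rigid hF hk hk1 ha h
      comm_two := fun H hH a ha b hb => T.two_group_comm hH ha hb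
      comm_three := fun S a ha b hb => congrArg Subtype.val ((h3 S).is_comm.comm ⟨a, ha⟩ ⟨b, hb⟩)
      card_G := by rw [hF]; exact hord }
  obtain ⟨data⟩ := S.tiData
  haveI : Fintype G := Fintype.ofFinite G
  exact data.impossible

/-- The list, given the Janko–Thompson–Ward theorem. -/
theorem all_sylow_abelian_cases (hub : JankoWard.WardHub.{u}) [IsSimpleGroup G] (hna : ¬ IsMulCommutative G)
    (hA : ∀ (p : ℕ), p.Prime → ∀ (P : Sylow p G), IsMulCommutative ↥P) :
    Cfsg.Spor.IsoJ1 G ∨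
      ∃ (F : Type) (_ : Field F) (_ : Fintype F), 3 < Fintype.card F ∧
        (Fintype.card F % 8 = 0 ∨ Fintype.card F % 8 = 3 ∨ Fintype.card F % 8 = 5) ∧
        Nonempty (G ≃* Matrix.ProjectiveSpecialLinearGroup (Fin 2) F) := by
  haveI : Fact (Nat.Prime 2) := ⟨Nat.prime_two⟩
  let S : Sylow 2 G := default
  rcases trichotomy hna (ThreeFree.two_dvd_card hna) S (hA 2 Nat.prime_two S) with
    ⟨F, i, j, n, hn, hF, ⟨e⟩⟩ | ⟨F, i, j, -, h5, h8, he⟩ | ⟨h8, hE, hJ⟩
  · haveI : CharP F 2 := charP_of_card_eq_prime_pow hF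
    rcases Nat.lt_or_ge n 3 with h3 | h3
    · obtain ⟨e5⟩ := psl_five_of_four (F := F) (by rw [hF, show n = 2 by omega]; norm_num)
        (e.trans (Invol.GW.SLTwoEquivPSL (F := F)).symm)
      haveI : Fact (Nat.Prime 5) := ⟨by norm_num⟩
      exact Or.inr ⟨ZMod 5, inferInstance, inferInstance, by simp, Or.inr (Or.inr (by simp)), ⟨e5⟩⟩
    · refine Or.inr ⟨F, i, j, ?_, Or.inl ?_, ⟨e⟩⟩
      · rw [hF]; exact lt_of_lt_of_le (by norm_num : 3 < 2 ^ 3) (Nat.pow_le_pow_right two_pos h3)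
      · rw [hF]; exact Nat.mod_eq_zero_of_dvd (dvd_trans (by norm_num) (pow_dvd_pow 2 h3))
  · exact Or.inr ⟨F, i, j, by omega, Or.inr h8, he⟩
  · obtain ⟨⟨t, htS⟩, ht⟩ := exists_prime_orderOf_dvd_card' (G := ↥(S : Subgroup G)) 2 (by rw [h8]; norm_num)
    rw [Subgroup.orderOf_mk] at ht
    obtain ⟨hodd, L, hL, F, i, j, ⟨e⟩, h5 | ⟨m, hm, hF, hord⟩⟩ := hub G inferInstance hna S h8 hE hJ t ht
    · exact Or.inl (j1_of_five S (hA 2 Nat.prime_two S) h8 ht hL h5 e).1
    · exact (not_abelian_three hna (hA 3 Nat.prime_three) ht hodd hL hm hF e hord).elim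

end Cfsg.Agent.Invol.AbelTwo
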