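import Cfsg.Agent.Lib.Classical.DicksonKlein
import Cfsg.Agent.Lib.Invol.GW.Consumers.DGroupEven

/-!
# Two opposite root subgroups, the torus and the Weyl element of `L2(q)`, `q ≡ 3 (mod 4)`
-/

set_option autoImplicit false
set_option linter.unusedSectionVars false
set_option linter.style.haveILetI false

namespace Cfsg.Agent.Invol.AbelTwo.ReeAbel

open Subgroup
open Cfsg.Agent.Grp.SL2 Cfsg.Agent.PSL2Spec Cfsg.Agent.Dickson
open scoped _root_.Classical

universe v

/-- A root subgroup of order `q`, a Weyl involution and a torus of odd order `(q - 1) / 2` inverted by it. -/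
structure Pack (P : Type v) [Group P] (q : ℕ) where
  /-- the root subgroup -/
  U : Subgroup P
  /-- the torus -/
  Y : Subgroup P
  /-- the Weyl element -/
  w : P
  card_P : Nat.card P * 2 = q * ((q - 1) * (q + 1))
  card_U : Nat.card ↥U = q
  U_comm : ∀ a ∈ U, ∀ b ∈ U, a * b = b * a
  cent_U : ∀ x : P, (∀ a ∈ U, x * a = a * x) → x ∈ U
  w1 : w ≠ 1
  w2 : w * w = 1
  w_mem : w ∈ U ⊔ U.map (MulAut.conj w).toMonoidHom
  opp : U ⊓ U.map (MulAut.conj w).toMonoidHom = ⊥
  card_Y : Nat.card ↥Y * 2 = q - 1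
  Y_odd : Odd (Nat.card ↥Y)
  Y_comm : ∀ a ∈ Y, ∀ b ∈ Y, a * b = b * a
  Y_norm : ∀ y ∈ Y, ∀ a ∈ U, y * a * y⁻¹ ∈ U
  w_Y : ∀ y ∈ Y, w * y * w⁻¹ = y⁻¹

variable {F : Type} [Field F] [Fintype F]

local notation "SL₂" => Matrix.SpecialLinearGroup (Fin 2) F
local notation "PSL₂" => Matrix.ProjectiveSpecialLinearGroup (Fin 2) F

/-- The diagonal elements. -/
def dgH : Fˣ →* SL₂ where
  toFun z := ⟨!![(z : F), 0; 0, ((z⁻¹ : Fˣ) : F)], by simp [Matrix.det_fin_two]⟩
  map_one' := Subtype.ext (by ext i j; fin_cases i <;> fin_cases j <;> simp)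
  map_mul' a b := Subtype.ext (by
    show _ = !![(a : F), 0; 0, ((a⁻¹ : Fˣ) : F)] * !![(b : F), 0; 0, ((b⁻¹ : Fˣ) : F)]
    ext i j; fin_cases i <;> fin_cases j <;>
      simp [Matrix.mul_apply, Fin.sum_univ_two, mul_comm])

theorem dgH_coe (z : Fˣ) :
    ((dgH z : SL₂) : Matrix (Fin 2) (Fin 2) F) = !![(z : F), 0; 0, ((z⁻¹ : Fˣ) : F)] := rfl

/-- The upper unitriangular elements. -/
def upH : Multiplicative F →* SL₂ where
  toFun t := up (Multiplicative.toAdd t)
  map_one' := up_zero
  map_mul' a b := (up_mul _ _).symm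

theorem upH_coe (t : Multiplicative F) :
    ((upH t : SL₂) : Matrix (Fin 2) (Fin 2) F) = !![1, Multiplicative.toAdd t; 0, 1] := rfl

/-- The Weyl element. -/
def wSL : SL₂ := ⟨!![0, 1; -1, 0], by simp [Matrix.det_fin_two]⟩

theorem wSL_coe : ((wSL : SL₂) : Matrix (Fin 2) (Fin 2) F) = !![0, 1; -1, 0] := rfl

theorem up_coe (t : F) : ((up t : SL₂) : Matrix (Fin 2) (Fin 2) F) = !![1, t; 0, 1] := rfl

theorem exists_pack (h4 : Fintype.card F % 4 = 3) : Nonempty (Pack PSL₂ (Fintype.card F)) := by
  have hodd : Odd (Fintype.card F) := Nat.odd_iff.2 (by omega)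
  have h2F : (2 : F) ≠ 0 := two_ne_zero_of_odd_card hodd
  have hne : (1 : F) ≠ -1 := fun h => h2F (by linear_combination h)
  let φU : Multiplicative F →* PSL₂ := proj.comp upH
  let φY : Fˣ →* PSL₂ := proj.comp dgH
  let w : PSL₂ := proj wSL
  have hUmem : ∀ t : F, proj (up t) ∈ φU.range := fun t => ⟨Multiplicative.ofAdd t, rfl⟩
  have hUinj : Function.Injective φU := (injective_iff_map_eq_one φU).2 fun t ht => by
    obtain ⟨c, -, hm⟩ := (proj_eq_one_iff _).1 ht
    have h := congrFun (congrFun hm 0) 1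
    rw [upH_coe] at h
    simpa using h
  have hwne : w ≠ 1 := fun h => by
    obtain ⟨c, -, hm⟩ := (proj_eq_one_iff _).1 h
    have h' := congrFun (congrFun hm 0) 1
    simp [wSL] at h'
  have hw2 : w * w = 1 := by
    show proj wSL * proj wSL = 1
    rw [← map_mul]
    exact (proj_eq_one_iff _).2 ⟨-1, by norm_num, by
      rw [Matrix.SpecialLinearGroup.coe_mul, wSL_coe]
      ext i j; fin_cases i <;> fin_cases j <;> simp [Matrix.mul_apply, Fin.sum_univ_two]⟩
  have hlow : ∀ t : F, proj (wSL * up t * wSL⁻¹) ∈ φU.range.map (MulAut.conj w).toMonoidHom := fun t =>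
    ⟨proj (up t), hUmem t, by simp [w, map_mul, map_inv]⟩
  have hwmem : w ∈ φU.range ⊔ φU.range.map (MulAut.conj w).toMonoidHom := by
    have he : (wSL : SL₂) = up 1 * (wSL * up 1 * wSL⁻¹) * up 1 := Subtype.ext (by
      rw [Matrix.SpecialLinearGroup.coe_mul, Matrix.SpecialLinearGroup.coe_mul,
        Matrix.SpecialLinearGroup.coe_mul, Matrix.SpecialLinearGroup.coe_mul,
        Matrix.SpecialLinearGroup.coe_inv, Matrix.adjugate_fin_two, up_coe, wSL_coe]
      ext i j; fin_cases i <;> fin_cases j <;> simp [Matrix.mul_apply, Fin.sum_univ_two])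
    show proj wSL ∈ _
    rw [he, map_mul, map_mul]
    exact mul_mem (mul_mem (mem_sup_left (hUmem 1)) (mem_sup_right (hlow 1))) (mem_sup_left (hUmem 1))
  have hopp : φU.range ⊓ φU.range.map (MulAut.conj w).toMonoidHom = ⊥ := by
    refine (eq_bot_iff_forall _).2 ?_
    rintro x ⟨⟨s, rfl⟩, ⟨-, ⟨t, rfl⟩, hst⟩⟩
    have h : proj ((upH s)⁻¹ * (wSL * upH t * wSL⁻¹)) = 1 := by
      rw [map_mul, map_inv, map_mul, map_mul, map_inv]
      simp only [φU, MonoidHom.coe_comp, Function.comp_apply, MulEquiv.toMonoidHom_eq_coe, MonoidHom.coe_coe,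
        MulAut.conj_apply] at hst
      rw [inv_mul_eq_one]
      exact hst.symm
    obtain ⟨c, -, hm⟩ := (proj_eq_one_iff _).1 h
    rw [Matrix.SpecialLinearGroup.coe_mul, Matrix.SpecialLinearGroup.coe_mul, Matrix.SpecialLinearGroup.coe_mul,
      Matrix.SpecialLinearGroup.coe_inv, Matrix.SpecialLinearGroup.coe_inv, Matrix.adjugate_fin_two,
      Matrix.adjugate_fin_two, upH_coe, upH_coe, wSL_coe] at hm
    have h01 := congrFun (congrFun hm 0) 1
    simp [Matrix.mul_apply, Fin.sum_univ_two] at h01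
    have hs : s = 1 := by
      have : Multiplicative.toAdd s = 0 := by simpa using h01
      simpa using this
    rw [hs, map_one]
  have hker : Nat.card ↥φY.ker = 2 := by
    have hset : (φY.ker : Set Fˣ) = {1, -1} := by
      ext z
      simp only [SetLike.mem_coe, MonoidHom.mem_ker, Set.mem_insert_iff, Set.mem_singleton_iff]
      constructor
      · intro h
        obtain ⟨c, hc, hm⟩ := (proj_eq_one_iff _).1 h
        have h00 := congrFun (congrFun hm 0) 0
        rw [dgH_coe] at h00
        simp at h00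
        rcases sq_eq_one_iff.1 hc with h1 | h1
        · exact Or.inl (Units.ext (by simpa [h1] using h00))
        · exact Or.inr (Units.ext (by simpa [h1] using h00))
      · rintro (rfl | rfl)
        · exact map_one _
        · exact (proj_eq_one_iff _).2 ⟨-1, by norm_num, by
            rw [dgH_coe]
            ext i j; fin_cases i <;> fin_cases j <;> simp⟩
    rw [show Nat.card ↥φY.ker = (φY.ker : Set Fˣ).ncard from Nat.card_coe_set_eq _, hset,
      Set.ncard_pair (fun h => hne (by simpa using congrArg Units.val h))]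
  have hY : Nat.card ↥φY.range * 2 = Fintype.card F - 1 := by
    have h := φY.ker.index_mul_card
    rw [Subgroup.index_ker, hker, Nat.card_units, Nat.card_eq_fintype_card (α := F)] at h
    exact h
  exact ⟨{
    U := φU.range
    Y := φY.range
    w := w
    card_P := by
      have h := Invol.GW.card_PSLTwo (F := F) hodd
      rw [mul_comm (Nat.card PSL₂), h]
    card_U := by
      rw [← Nat.card_congr (MonoidHom.ofInjective hUinj).toEquiv, Nat.card_congr Multiplicative.toAdd,
        Nat.card_eq_fintype_card]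
    U_comm := by rintro _ ⟨a, rfl⟩ _ ⟨b, rfl⟩; rw [← map_mul, mul_comm, map_mul]
    cent_U := by
      intro x hx
      obtain ⟨A, rfl⟩ := proj_surjective x
      have h : proj ((upH (Multiplicative.ofAdd 1) * A)⁻¹ * (A * upH (Multiplicative.ofAdd 1))) = 1 := by
        rw [map_mul, map_inv, map_mul, map_mul, inv_mul_eq_one]
        exact (hx _ ⟨Multiplicative.ofAdd 1, rfl⟩).symm
      obtain ⟨c, hc, hm⟩ := (proj_eq_one_iff _).1 h
      have hm' : (A : Matrix (Fin 2) (Fin 2) F) * !![1, 1; 0, 1] = c • (!![1, 1; 0, 1] * (A : Matrix (Fin 2) (Fin 2) F)) := by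
        have h' := congrArg (fun M => ((upH (Multiplicative.ofAdd 1) * A : SL₂) : Matrix (Fin 2) (Fin 2) F) * M) hm
        simp only [← Matrix.SpecialLinearGroup.coe_mul, mul_inv_cancel_left] at h'
        rw [Matrix.SpecialLinearGroup.coe_mul, Matrix.SpecialLinearGroup.coe_mul, upH_coe, mul_smul_comm, mul_one,
          toAdd_ofAdd] at h'
        exact h'
      have hd := Cfsg.Agent.Grp.SL2.det_eq A
      have e00 := congrFun (congrFun hm' 0) 0
      have e01 := congrFun (congrFun hm' 0) 1
      have e10 := congrFun (congrFun hm' 1) 0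
      have e11 := congrFun (congrFun hm' 1) 1
      simp [Matrix.mul_apply, Fin.sum_univ_two, Matrix.vecMul, dotProduct] at e00 e01 e10 e11
      rcases sq_eq_one_iff.1 hc with rfl | rfl
      · have h10 : A.1 1 0 = 0 := by linear_combination -e00
        have h00 : A.1 0 0 = A.1 1 1 := by linear_combination e01
        rw [h10, mul_zero, sub_zero, ← h00] at hd
        refine ⟨Multiplicative.ofAdd (A.1 0 0 * A.1 0 1), ?_⟩
        show proj (upH (Multiplicative.ofAdd (A.1 0 0 * A.1 0 1))) = proj A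
        rw [← inv_mul_eq_one, ← map_inv (proj (F := F)), ← map_mul]
        refine (proj_eq_one_iff _).2 ⟨A.1 0 0, by linear_combination hd, ?_⟩
        rw [Matrix.SpecialLinearGroup.coe_mul, Matrix.SpecialLinearGroup.coe_inv, Matrix.adjugate_fin_two, upH_coe]
        ext i j; fin_cases i <;> fin_cases j <;> simp [Matrix.mul_apply, Fin.sum_univ_two, h10, ← h00]
        linear_combination (-(A.1 0 1)) * hd
      · exfalso
        have h10 : A.1 1 0 = 0 := by
          have : (2 : F) * A.1 1 0 = 0 := by linear_combination e10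
          exact (mul_eq_zero.1 this).resolve_left h2F
        rw [h10, mul_zero, sub_zero] at hd
        have h00 : (2 : F) * A.1 0 0 = 0 := by linear_combination e00 - h10
        rw [(mul_eq_zero.1 h00).resolve_left h2F, zero_mul] at hd
        exact zero_ne_one hd
    w1 := hwne
    w2 := hw2
    w_mem := hwmem
    opp := hopp
    card_Y := hY
    Y_odd := Nat.odd_iff.2 (by omega)
    Y_comm := by rintro _ ⟨a, rfl⟩ _ ⟨b, rfl⟩; rw [← map_mul, mul_comm, map_mul]
    Y_norm := by
      rintro _ ⟨z, rfl⟩ _ ⟨t, rfl⟩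
      refine ⟨Multiplicative.ofAdd ((z : F) * (z : F) * Multiplicative.toAdd t), ?_⟩
      simp only [φU, φY, MonoidHom.coe_comp, Function.comp_apply]
      rw [← map_inv (proj (F := F)), ← map_mul, ← map_mul]
      refine congrArg proj (Subtype.ext ?_)
      rw [Matrix.SpecialLinearGroup.coe_mul, Matrix.SpecialLinearGroup.coe_mul,
        Matrix.SpecialLinearGroup.coe_inv, Matrix.adjugate_fin_two, upH_coe, upH_coe, dgH_coe]
      ext i j; fin_cases i <;> fin_cases j <;> simp [Matrix.mul_apply, Fin.sum_univ_two]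
      all_goals ring
    w_Y := by
      rintro _ ⟨z, rfl⟩
      simp only [φY, w, MonoidHom.coe_comp, Function.comp_apply]
      rw [← map_inv (proj (F := F)), ← map_mul, ← map_mul, ← map_inv (proj (F := F))]
      refine congrArg proj (Subtype.ext ?_)
      rw [Matrix.SpecialLinearGroup.coe_mul, Matrix.SpecialLinearGroup.coe_mul,
        Matrix.SpecialLinearGroup.coe_inv, Matrix.SpecialLinearGroup.coe_inv, Matrix.adjugate_fin_two,
        Matrix.adjugate_fin_two, dgH_coe, wSL_coe]
      ext i j; fin_cases i <;> fin_cases j <;> simp [Matrix.mul_apply, Fin.sum_univ_two] }⟩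

end Cfsg.Agent.Invol.AbelTwo.ReeAbel
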